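import Cfsg.Agent.Lib.Solvable.LinearClasses.Small
import Mathlib.GroupTheory.SemidirectProduct
import Mathlib.GroupTheory.CommutingProbability

/-!
# Classes of subgroups of an affine group

For a linear group `G` of order prime to `|V|` and a subgroup `Y` of `V ⋊ G` with image `B`, the
class number times `|B|` is at most the number of triples `(a, c, v)` with `a, c` commuting
members of `B` that fix `v`.
-/

set_option autoImplicit false
set_option linter.style.haveILetI false

namespace CfsgLib.Solvable.BlockSize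

open CfsgLib.Perm.OddBase CfsgLib.Solvable.LinearClasses

variable (G V : Type) [Group G] [AddCommGroup V] [DistribMulAction G V]

/-- The action on the multiplicative copy of the module. -/
def aff : G →* MulAut (Multiplicative V) :=
  MonoidHom.mk' (fun g =>
    { toFun := fun x => Multiplicative.ofAdd (g • Multiplicative.toAdd x)
      invFun := fun x => Multiplicative.ofAdd (g⁻¹ • Multiplicative.toAdd x)
      left_inv := fun x => by simp
      right_inv := fun x => by simp
      map_mul' := fun x y => by simp [smul_add] })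
    fun g h => by
      ext x
      simp [mul_smul]

/-- The affine group. -/
abbrev Aff := Multiplicative V ⋊[aff G V] G

variable {G V}

theorem finite_aff [Finite G] [Finite V] : Finite (Aff G V) :=
  Finite.of_equiv _ SemidirectProduct.equivProd.symm

/-- The translation part. -/
def tr (y : Aff G V) : V := Multiplicative.toAdd y.left

theorem tr_mul (x y : Aff G V) : tr (x * y) = tr x + x.right • tr y := rfl

theorem ext_iff' {x y : Aff G V} : x = y ↔ tr x = tr y ∧ x.right = y.right :=
  ⟨fun h => h ▸ ⟨rfl, rfl⟩, fun ⟨h1, h2⟩ => SemidirectProduct.ext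
    (Multiplicative.toAdd.injective h1) h2⟩

/-- The triples counted on the linear side. -/
def Triple (B : Subgroup G) (V : Type) [AddCommGroup V] [DistribMulAction G V] : Type :=
  {q : (B × B) × V // Commute q.1.1 q.1.2 ∧ (q.1.1 : G) • q.2 = q.2 ∧ (q.1.2 : G) • q.2 = q.2}

variable [Finite G] [Finite V]

/-- The projection onto the fixed points of an element of coprime order. -/
theorem exists_proj (hcop : (Nat.card V).Coprime (Nat.card G)) (a : G) :
    ∃ π : V →+ V, (∀ x, a • π x = π x) ∧ (∀ x, π (a • x) = π x) ∧ (∀ x, a • x = x → π x = x) ∧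
      (∀ c : G, Commute a c → ∀ x, π (c • x) = c • π x) ∧
      ∀ W : AddSubgroup V, (∀ x ∈ W, a • x ∈ W) → ∀ x ∈ W, π x ∈ W := by
  classical
  have hco : (orderOf a).Coprime (Nat.card V) :=
    (Nat.Coprime.coprime_dvd_right (orderOf_dvd_natCard a) hcop).symm
  obtain ⟨m, hm⟩ : ∃ m, orderOf a * m ≡ 1 [MOD Nat.card V] := by
    refine ⟨orderOf a ^ ((Nat.card V).totient - 1), ?_⟩
    rw [← pow_succ', Nat.sub_add_cancel (Nat.totient_pos.2 Nat.card_pos)]
    exact Nat.ModEq.pow_totient hco
  have hone : ∀ x : V, (orderOf a * m) • x = x := fun x => by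
    conv_rhs => rw [← one_nsmul x]
    refine nsmul_eq_nsmul_iff_modEq.2 ?_
    exact hm.of_dvd (addOrderOf_dvd_natCard x)
  let π : V →+ V := AddMonoidHom.mk' (fun x => m • ∑ i ∈ Finset.range (orderOf a), a ^ i • x)
    fun x y => by simp [smul_add, Finset.sum_add_distrib]
  have hπ : ∀ x, π x = m • ∑ i ∈ Finset.range (orderOf a), a ^ i • x := fun _ => rfl
  have hshift : ∀ x : V, ∑ i ∈ Finset.range (orderOf a), a ^ (i + 1) • x =
      ∑ i ∈ Finset.range (orderOf a), a ^ i • x := by
    intro x
    have h1 := Finset.sum_range_succ' (fun i => a ^ i • x) (orderOf a)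
    have h2 := Finset.sum_range_succ (fun i => a ^ i • x) (orderOf a)
    rw [h1] at h2
    simpa [pow_orderOf_eq_one] using h2
  refine ⟨π, fun x => ?_, fun x => ?_, fun x hx => ?_, fun c hc x => ?_, fun W hW x hx => ?_⟩
  · rw [hπ, smul_comm a m, Finset.smul_sum]
    simp only [smul_smul, ← pow_succ']
    rw [hshift]
  · rw [hπ, hπ]
    simp only [smul_smul, ← pow_succ]
    rw [hshift]
  · rw [hπ]
    have : ∀ i, a ^ i • x = x := fun i => by
      induction i with
      | zero => simp
      | succ i ih => rw [pow_succ, mul_smul, hx, ih]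
    simp only [this, Finset.sum_const, Finset.card_range]
    rw [← mul_nsmul, hone]
  · rw [hπ, hπ, smul_comm c m, Finset.smul_sum (r := c)]
    simp only [smul_smul, (hc.pow_left _).eq]
  · rw [hπ]
    refine W.nsmul_mem (W.sum_mem fun i hi => ?_) m
    clear hi
    induction i with
    | zero => simpa using hx
    | succ i ih => rw [pow_succ', mul_smul]; exact hW _ ih

/-- The pair count. -/
theorem classes_mul_le (hcop : (Nat.card V).Coprime (Nat.card G)) (Y : Subgroup (Aff G V)) :
    Nat.card (ConjClasses Y) * Nat.card (Y.map SemidirectProduct.rightHom) ≤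
      Nat.card (Triple (Y.map SemidirectProduct.rightHom) V) := by
  classical
  haveI := finite_aff (G := G) (V := V)
  set B := Y.map SemidirectProduct.rightHom with hB
  let r : Y →* B := SemidirectProduct.rightHom.subgroupMap Y
  have hr : Function.Surjective r := MonoidHom.subgroupMap_surjective _ Y
  have hrv : ∀ y : Y, (r y : G) = (y : Aff G V).right := fun _ => rfl
  let W : AddSubgroup V :=
    { carrier := {v | ∃ y : Y, r y = 1 ∧ tr (y : Aff G V) = v}
      zero_mem' := ⟨1, map_one r, rfl⟩
      add_mem' := by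
        rintro v w ⟨y, hy, rfl⟩ ⟨z, hz, rfl⟩
        refine ⟨y * z, by rw [map_mul, hy, hz, one_mul], ?_⟩
        have : (y : Aff G V).right = 1 := congrArg Subtype.val hy
        rw [Subgroup.coe_mul, tr_mul, this, one_smul]
      neg_mem' := by
        rintro v ⟨y, hy, rfl⟩
        refine ⟨y⁻¹, by rw [map_inv, hy, inv_one], ?_⟩
        have h1 : (y : Aff G V).right = 1 := congrArg Subtype.val hy
        have h2 : tr ((y⁻¹ * y : Y) : Aff G V) = 0 := by rw [inv_mul_cancel]; rfl
        rw [Subgroup.coe_mul, tr_mul, show ((y⁻¹ : Y) : Aff G V).right = 1 by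
          rw [Subgroup.coe_inv, SemidirectProduct.inv_right, h1, inv_one], one_smul] at h2
        exact eq_neg_of_add_eq_zero_left h2 }
  have hWinv : ∀ b : B, ∀ v ∈ W, (b : G) • v ∈ W := by
    intro b v hv
    obtain ⟨y, hy, rfl⟩ := hv
    obtain ⟨z, rfl⟩ := hr b
    refine ⟨z * y * z⁻¹, by rw [map_mul, map_mul, hy, mul_one, map_inv, mul_inv_cancel], ?_⟩
    have hy1 : (y : Aff G V).right = 1 := congrArg Subtype.val hy
    have hz : tr ((z * z⁻¹ : Y) : Aff G V) = 0 := by rw [mul_inv_cancel]; rfl
    rw [Subgroup.coe_mul, tr_mul] at hz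
    rw [Subgroup.coe_mul, Subgroup.coe_mul, tr_mul, tr_mul, SemidirectProduct.mul_right, hy1,
      mul_one, hrv]
    rw [add_right_comm, hz, zero_add]
  have hker : Nat.card r.ker = Nat.card W := by
    refine Nat.card_congr (Equiv.ofBijective
      (fun y : r.ker => (⟨tr ((y : Y) : Aff G V), (y : Y), y.2, rfl⟩ : W)) ⟨fun y z h => ?_, ?_⟩)
    · refine Subtype.ext (Subtype.ext (ext_iff'.2 ⟨congrArg Subtype.val h, ?_⟩))
      exact (congrArg Subtype.val (show r y = 1 from y.2)).trans
        (congrArg Subtype.val (show r z = 1 from z.2)).symm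
    · rintro ⟨v, y, hy, rfl⟩
      exact ⟨⟨y, hy⟩, rfl⟩
  have hY : Nat.card Y = Nat.card W * Nat.card B := by
    rw [← hker, ← r.ker.card_mul_index, Subgroup.index_ker, MonoidHom.range_eq_top.2 hr,
      Subgroup.card_top]
  -- the fibres
  let P := {y : Y × Y // Commute y.1 y.2}
  let R := {b : B × B // Commute b.1 b.2}
  let f : P → R := fun y => ⟨(r y.1.1, r y.1.2), y.2.map r⟩
  have hfib : ∀ b : R, Nat.card {y : P // f y = b} ≤
      Nat.card W * Nat.card {v : V // (b.1.1 : G) • v = v ∧ (b.1.2 : G) • v = v} := by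
    intro b
    rcases isEmpty_or_nonempty {y : P // f y = b} with h | ⟨⟨y₀, hy₀⟩⟩
    · rw [Nat.card_of_isEmpty]; exact Nat.zero_le _
    set a : G := (b.1.1 : G)
    set c : G := (b.1.2 : G)
    have hac : Commute a c := b.2.map B.subtype
    obtain ⟨π, hπ1, hπ2, hπ3, hπ4, hπ5⟩ := exists_proj hcop a
    have hright : ∀ y : {y : P // f y = b},
        (y.1.1.1 : Aff G V).right = a ∧ (y.1.1.2 : Aff G V).right = c := fun y =>
      ⟨congrArg (fun q : R => (q.1.1 : G)) y.2, congrArg (fun q : R => (q.1.2 : G)) y.2⟩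
    have heq : ∀ y : {y : P // f y = b},
        tr (y.1.1.1 : Aff G V) + a • tr (y.1.1.2 : Aff G V) =
          tr (y.1.1.2 : Aff G V) + c • tr (y.1.1.1 : Aff G V) := fun y => by
      have := congrArg (fun z : Y => tr (z : Aff G V)) y.1.2.eq
      simpa only [Subgroup.coe_mul, tr_mul, (hright y).1, (hright y).2] using this
    have hdiff : ∀ (u w : Y), r u = r w → tr (u : Aff G V) - tr (w : Aff G V) ∈ W := fun u w h => by
      refine ⟨u * w⁻¹, by rw [map_mul, map_inv, h, mul_inv_cancel], ?_⟩
      have h1 : tr ((u * w⁻¹ * w : Y) : Aff G V) = tr (u : Aff G V) := by rw [inv_mul_cancel_right]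
      rw [Subgroup.coe_mul, tr_mul, show ((u * w⁻¹ : Y) : Aff G V).right = 1 from
        congrArg Subtype.val (show r (u * w⁻¹) = 1 by rw [map_mul, map_inv, h, mul_inv_cancel]),
        one_smul] at h1
      exact eq_sub_of_add_eq h1
    let dx : {y : P // f y = b} → V := fun y => tr (y.1.1.1 : Aff G V) - tr (y₀.1.1 : Aff G V)
    let dy : {y : P // f y = b} → V := fun y => tr (y.1.1.2 : Aff G V) - tr (y₀.1.2 : Aff G V)
    have hdx : ∀ y, dx y ∈ W := fun y =>
      hdiff _ _ (congrArg (fun q : R => q.1.1) (y.2.trans hy₀.symm))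
    have hdy : ∀ y, dy y ∈ W := fun y =>
      hdiff _ _ (congrArg (fun q : R => q.1.2) (y.2.trans hy₀.symm))
    have hlin : ∀ y, dx y + a • dy y = dy y + c • dx y := fun y => by
      have h1 := heq y
      have h2 := heq ⟨y₀, hy₀⟩
      simp only [dx, dy, smul_sub]
      calc _ = (tr (y.1.1.1 : Aff G V) + a • tr (y.1.1.2 : Aff G V)) -
            (tr (y₀.1.1 : Aff G V) + a • tr (y₀.1.2 : Aff G V)) := by abel
        _ = _ := by rw [h1, h2]; abel
    have hWπ : ∀ x ∈ W, π x ∈ W := hπ5 W fun x hx => hWinv b.1.1 x hx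
    have hπx : ∀ y, c • π (dx y) = π (dx y) := fun y => by
      have := congrArg π (hlin y)
      rw [map_add, map_add, hπ2, hπ4 c hac, add_comm (π (dy y))] at this
      exact (add_right_cancel this).symm
    rw [← Nat.card_prod]
    refine Nat.card_le_card_of_injective (fun y =>
      ((⟨dx y - π (dx y) + π (dy y), W.add_mem (W.sub_mem (hdx y) (hWπ _ (hdx y)))
        (hWπ _ (hdy y))⟩ : W),
        (⟨π (dx y), hπ1 _, hπx y⟩ : {v : V // a • v = v ∧ c • v = v}))) ?_
    intro y z h
    simp only [Prod.mk.injEq, Subtype.mk.injEq] at h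
    obtain ⟨h1, h2⟩ := h
    rw [h2] at h1
    have hy' : π (dy y) = π (dy z) := by
      have := congrArg π h1
      simp only [map_add, map_sub, hπ3 _ (hπ1 _), h2, sub_self, zero_add] at this
      exact this
    rw [hy'] at h1
    have hx : dx y = dx z := sub_left_injective (add_right_cancel h1)
    have hyy : dy y = dy z := by
      have e1 := hlin y
      rw [hx] at e1
      have e2 := hlin z
      have : a • (dy y - dy z) = dy y - dy z := by
        rw [smul_sub]
        calc _ = (dx z + a • dy y) - (dx z + a • dy z) := by abel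
          _ = _ := by rw [e1, e2]; abel
      have h3 := hπ3 _ this
      rw [map_sub, hy', sub_self] at h3
      exact sub_eq_zero.1 h3.symm
    refine Subtype.ext (Subtype.ext (Prod.ext (Subtype.ext (ext_iff'.2
      ⟨sub_left_injective hx, (hright y).1.trans (hright z).1.symm⟩)) (Subtype.ext (ext_iff'.2
      ⟨sub_left_injective hyy, (hright y).2.trans (hright z).2.symm⟩))))
  haveI : Fintype R := Fintype.ofFinite R
  have hP : Nat.card P ≤ Nat.card W * Nat.card (Triple B V) := by
    rw [Nat.card_congr (Equiv.sigmaFiberEquiv f).symm, Nat.card_sigma]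
    refine (Finset.sum_le_sum fun b _ => hfib b).trans (le_of_eq ?_)
    rw [← Finset.mul_sum, ← Nat.card_sigma]
    congr 1
    exact Nat.card_congr
      { toFun := fun x => ⟨((x.1.1.1, x.1.1.2), x.2.1), x.1.2, x.2.2.1, x.2.2.2⟩
        invFun := fun x => ⟨⟨x.1.1, x.2.1⟩, ⟨x.1.2, x.2.2.1, x.2.2.2⟩⟩
        left_inv := fun _ => rfl
        right_inv := fun _ => rfl }
  rw [card_comm_eq_card_conjClasses_mul_card, hY] at hP
  refine Nat.le_of_mul_le_mul_left ?_ (Nat.card_pos (α := W))
  calc Nat.card W * (Nat.card (ConjClasses Y) * Nat.card B)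
      = Nat.card (ConjClasses Y) * (Nat.card W * Nat.card B) := by ring
    _ ≤ _ := hP

end CfsgLib.Solvable.BlockSize
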