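import Cfsg.Agent.Lib.Solvable.BlockSize.Affine

/-!
# Counting the fixed triples of a group with scalar commutators
-/

set_option autoImplicit false
set_option linter.style.haveILetI false

namespace CfsgLib.Solvable.BlockSize

open CfsgLib.Solvable.LinearClasses
open scoped commutatorElement

variable {G V : Type} [Group G] [Finite G] [AddCommGroup V] [Finite V] [DistribMulAction G V]

/-- The hypotheses on the two layers. -/
structure Layers (U M : Subgroup G) (V : Type) [AddCommGroup V] [DistribMulAction G V] (e : ℕ) :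
    Prop where
  le : U ≤ M
  fpf : ∀ u ∈ U, u ≠ 1 → ∀ x : V, u • x = x → x = 0
  comm : ∀ a ∈ M, ∀ b ∈ M, ⁅a, b⁆ ∈ U
  half : ∀ m ∈ M, m ∉ U → Nat.card {x : V // m • x = x} ^ 2 ≤ Nat.card V
  iso : ∀ S : Subgroup G, S ≤ M → S ⊓ U = ⊥ → Nat.card S ≤ e

theorem triple_le {U M : Subgroup G} {e : ℕ} (L : Layers U M V e) (B : Subgroup G) (hB : B ≤ M) :
    Nat.card (Triple B V) ≤ Nat.card (ConjClasses B) * Nat.card B + (Nat.card V - 1) +
      (e + 1) * ((Nat.sqrt (Nat.card V) - 1) * (Nat.card B - Nat.card (U ⊓ B : Subgroup G))) := by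
  classical
  haveI : Fintype V := Fintype.ofFinite V
  haveI : Fintype B := Fintype.ofFinite B
  let S : V → Finset B := fun v => Finset.univ.filter fun b => (b : G) • v = v
  have h1 : Nat.card (Triple B V) =
      ∑ v : V, Nat.card {q : B × B // Commute q.1 q.2 ∧ (q.1 : G) • v = v ∧ (q.2 : G) • v = v} := by
    rw [← Nat.card_sigma]
    exact Nat.card_congr
      { toFun := fun x => ⟨x.1.2, x.1.1, x.2⟩
        invFun := fun x => ⟨(x.2.1, x.1), x.2.2⟩
        left_inv := fun _ => rfl
        right_inv := fun _ => rfl }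
  have h0 : Nat.card {q : B × B // Commute q.1 q.2 ∧ (q.1 : G) • (0 : V) = 0 ∧ (q.2 : G) • (0 : V) = 0}
      = Nat.card (ConjClasses B) * Nat.card B := by
    rw [← card_comm_eq_card_conjClasses_mul_card]
    exact Nat.card_congr (Equiv.subtypeEquivRight fun q => by simp)
  have hpair : ∀ v : V,
      Nat.card {q : B × B // Commute q.1 q.2 ∧ (q.1 : G) • v = v ∧ (q.2 : G) • v = v} ≤
        (S v).card * (S v).card := by
    intro v
    rw [← Finset.card_product]
    refine le_trans (Nat.card_le_card_of_injective (β := ↥(S v ×ˢ S v))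
      (fun q => ⟨q.1, Finset.mem_product.2 ⟨Finset.mem_filter.2 ⟨Finset.mem_univ _, q.2.2.1⟩,
        Finset.mem_filter.2 ⟨Finset.mem_univ _, q.2.2.2⟩⟩⟩) ?_)
      (Nat.card_eq_finsetCard _).le
    intro a b hab
    exact Subtype.ext (congrArg Subtype.val hab :)
  have hSe : ∀ v : V, v ≠ 0 → (S v).card ≤ e := by
    intro v hv
    let T : Subgroup G := B ⊓ MulAction.stabilizer G v
    refine le_trans ?_ (L.iso T (inf_le_left.trans hB) ((Subgroup.eq_bot_iff_forall _).2
      fun x hx => by_contra fun hx1 => hv (L.fpf x hx.2 hx1 v hx.1.2)))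
    rw [← Nat.card_eq_finsetCard]
    refine Nat.card_le_card_of_injective
      (fun b => (⟨((b : B) : G), (b : B).2, (Finset.mem_filter.1 b.2).2⟩ : T)) ?_
    intro a b hab
    exact Subtype.ext (Subtype.ext (congrArg Subtype.val hab :))
  have hone : ∀ v : V, (1 : B) ∈ S v := fun v => Finset.mem_filter.2 ⟨Finset.mem_univ _, by simp⟩
  have hsq : ∀ v : V, v ≠ 0 →
      (S v).card * (S v).card ≤ 1 + (e + 1) * ((S v).erase 1).card := by
    intro v hv
    rw [Finset.card_erase_of_mem (hone v)]
    have hpos := Finset.card_pos.2 ⟨_, hone v⟩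
    obtain ⟨k, hk⟩ := Nat.exists_eq_succ_of_ne_zero hpos.ne'
    have := hSe v hv
    rw [hk] at this ⊢
    simp only [Nat.succ_eq_add_one, Nat.add_sub_cancel] at this ⊢
    nlinarith
  have hdouble : ∑ v ∈ (Finset.univ : Finset V).erase 0, ((S v).erase 1).card =
      ∑ b ∈ (Finset.univ : Finset B).erase 1,
        (((Finset.univ : Finset V).erase 0).filter fun v => (b : G) • v = v).card := by
    simp only [S, ← Finset.filter_erase, Finset.card_filter]
    exact Finset.sum_comm
  have hfix : ∀ b ∈ (Finset.univ : Finset B).erase 1,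
      (((Finset.univ : Finset V).erase 0).filter fun v => (b : G) • v = v).card ≤
        if (b : G) ∈ U then 0 else Nat.sqrt (Nat.card V) - 1 := by
    intro b hb
    split
    · next hbU =>
      refine le_of_eq (Finset.card_eq_zero.2 (Finset.filter_eq_empty_iff.2 fun v hv hv' => ?_))
      exact (Finset.mem_erase.1 hv).1
        (L.fpf _ hbU (fun h => (Finset.mem_erase.1 hb).1 (Subtype.ext h)) v hv')
    · next hbU =>
      rw [Finset.filter_erase, Finset.card_erase_of_mem (show (0 : V) ∈
        (Finset.univ : Finset V).filter (fun v => (b : G) • v = v) from Finset.mem_filter.2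
        ⟨Finset.mem_univ _, smul_zero _⟩)]
      refine Nat.sub_le_sub_right (Nat.le_sqrt'.2 (le_trans (le_of_eq ?_) (L.half _ (hB b.2) hbU))) 1
      rw [← Nat.card_eq_finsetCard]
      congr 1
      exact Nat.card_congr (Equiv.subtypeEquivRight fun v => by simp)
  have hcount : (((Finset.univ : Finset B).erase 1).filter fun b : B => ¬ (b : G) ∈ U).card =
      Nat.card B - Nat.card (U ⊓ B : Subgroup G) := by
    rw [Finset.filter_erase, Finset.erase_eq_of_notMem (by simp [U.one_mem])]
    have h := Finset.card_filter_add_card_filter_not (s := (Finset.univ : Finset B))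
      (fun b => (b : G) ∈ U)
    have hU : (Finset.univ.filter fun b : B => (b : G) ∈ U).card =
        Nat.card (U ⊓ B : Subgroup G) := by
      rw [← Nat.card_eq_finsetCard]
      exact Nat.card_congr
        { toFun := fun b => ⟨((b : B) : G), (Finset.mem_filter.1 b.2).2, (b : B).2⟩
          invFun := fun g => ⟨⟨g.1, g.2.2⟩, Finset.mem_filter.2 ⟨Finset.mem_univ _, g.2.1⟩⟩
          left_inv := fun _ => rfl
          right_inv := fun _ => rfl }
    rw [Finset.card_univ, ← Nat.card_eq_fintype_card, hU] at h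
    omega
  rw [h1, ← Finset.add_sum_erase _ _ (Finset.mem_univ (0 : V)), h0, add_assoc]
  refine Nat.add_le_add_left ?_ _
  refine (Finset.sum_le_sum fun v hv =>
    (hpair v).trans (hsq v (Finset.mem_erase.1 hv).1)).trans ?_
  rw [Finset.sum_add_distrib, ← Finset.mul_sum, hdouble]
  refine Nat.add_le_add (le_of_eq ?_) (Nat.mul_le_mul_left _ ?_)
  · rw [Finset.sum_const, smul_eq_mul, mul_one, Finset.card_erase_of_mem (Finset.mem_univ _),
      Finset.card_univ, Nat.card_eq_fintype_card]
  · refine (Finset.sum_le_sum hfix).trans (le_of_eq ?_)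
    rw [Finset.sum_ite, Finset.sum_const_zero, zero_add, Finset.sum_const, smul_eq_mul, hcount,
      mul_comm]

end CfsgLib.Solvable.BlockSize
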