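import Cfsg.Agent.Lib.Blocks.RegularIdemExt
import Cfsg.Agent.Lib.CharDeep.Glauberman.Gallagher
import Cfsg.Agent.Lib.Char.Clifford
import Cfsg.Agent.Lib.Char.Constituent

/-!
# The number of irreducible characters over an invariant character

There are at most as many of them as `G / K` has classes: on each coset such a character is a
multiple of one fixed function.
-/

set_option autoImplicit false
set_option linter.style.haveILetI false

universe u

namespace CfsgLib.Solvable.BlockSize

open Cfsg CfsgLib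

variable {G : Type u} [Group G] [Fintype G] {K : Subgroup G} [hKn : K.Normal] [Fintype K]

/-- On one coset the characters over `θ` are proportional. -/
theorem exists_coset_fun (θ : IrrCharacter K)
    (hinv : ∀ (g : G) (k : K), (θ : K → ℂ) ⟨g * k * g⁻¹, hKn.conj_mem k k.2 g⟩ = (θ : K → ℂ) k)
    (x : G) : ∃ E : K → ℂ, ∀ χ : IrrCharacter G,
      classInner (fun k : K => (χ : G → ℂ) k) (θ : K → ℂ) ≠ 0 →
        ∃ c : ℂ, ∀ k : K, (χ : G → ℂ) (x * k) = c * E k := by
  classical
  obtain ⟨Θ, hΘ, hres⟩ := Blocks.RegIdemExt.exists_extension_sup_zpowers θ.2 hinv x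
  set L := K ⊔ Subgroup.zpowers x with hL
  have hKL : K ≤ L := le_sup_left
  haveI : (K.subgroupOf L).Normal := hKn.subgroupOf L
  let θ' : K.subgroupOf L → ℂ := fun n => (θ : K → ℂ) ⟨((n : L) : G), Subgroup.mem_subgroupOf.1 n.2⟩
  let e : K.subgroupOf L ≃* K := Subgroup.subgroupOfEquivOfLe hKL
  have hθ' : IsIrrCharacter (K.subgroupOf L) θ' := Char.IsIrrCharacter.comp_equiv θ.2 e
  let π := QuotientGroup.mk' (K.subgroupOf L)
  refine ⟨fun k => Θ (x * k), fun χ hχ => ?_⟩
  have hR := Char.IsCharacter.restrict (Char.isCharacter_irr χ) L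
  obtain ⟨m, -, hexp⟩ := Char.IsCharacter.exists_multiplicity hR
  -- the restriction to `K` is a multiple of `θ`
  obtain ⟨c, hc⟩ : ∃ c : ℂ, ∀ k : K, (χ : G → ℂ) k = c * (θ : K → ℂ) k := by
    have h := Char.restrict_eq_smul_orbit χ.2 θ.2 hχ
    have hset : {ψ : K → ℂ | ∃ g : G, ψ = Char.conjG (θ : K → ℂ) g} = {(θ : K → ℂ)} := by
      have hc : ∀ g : G, Char.conjG (θ : K → ℂ) g = (θ : K → ℂ) := fun g => funext fun k => hinv g k
      refine Set.ext fun ψ => ⟨fun ⟨g, hg⟩ => hg.trans (hc g), fun h => ⟨1, ?_⟩⟩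
      rw [hc]; exact h
    rw [hset, finsum_mem_singleton] at h
    exact ⟨_, fun k => congrFun h k⟩
  -- each constituent of the restriction to `L` is the extension times a character of the quotient
  have hval : ∀ ψ : IrrCharacter L, m ψ ≠ 0 → ∃ a : ℂ, ∀ k : K,
      (ψ : L → ℂ) ⟨x * k, L.mul_mem (Subgroup.mem_sup_right (Subgroup.mem_zpowers x)) (hKL k.2)⟩
        = a * Θ (x * k) := by
    intro ψ hm
    have hover : classInner (fun n : K.subgroupOf L => (ψ : L → ℂ) n) θ' ≠ 0 := by
      intro h0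
      have hψK := Char.IsCharacter.restrict (Char.isCharacter_irr ψ) (K.subgroupOf L)
      obtain ⟨φ, hφ, hφ0⟩ := Char.IsCharacter.exists_constituent hψK fun h => by
        have h2 := congrFun h 1
        exact Char.IsIrrCharacter.apply_one_ne_zero ψ.2 h2
      choose a ha using fun η : IrrCharacter L => Char.IsCharacter.classInner_nat
        (Char.IsCharacter.restrict (Char.isCharacter_irr η) (K.subgroupOf L))
        (Char.IsIrrCharacter.isCharacter hφ)
      have h1 : classInner (fun n : K.subgroupOf L => (χ : G → ℂ) ((n : L) : G)) φ =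
          ((∑ η : IrrCharacter L, m η * a η : ℕ) : ℂ) := by
        have e0 : (fun n : K.subgroupOf L => (χ : G → ℂ) ((n : L) : G)) =
            ∑ η : IrrCharacter L, (m η : ℂ) • fun n : K.subgroupOf L => (η : L → ℂ) n := by
          funext n
          rw [Finset.sum_apply]
          exact hexp n
        rw [e0, Char.classInner_sum_left]
        push_cast
        exact Finset.sum_congr rfl fun η _ => by rw [Char.classInner_smul_left, ha]
      have h2 : classInner (fun n : K.subgroupOf L => (χ : G → ℂ) ((n : L) : G)) φ = 0 := by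
        rw [show (fun n : K.subgroupOf L => (χ : G → ℂ) ((n : L) : G)) = c • θ' from
          funext fun n => hc ⟨_, Subgroup.mem_subgroupOf.1 n.2⟩, Char.classInner_smul_left,
          Char.classInner_irr_ne hθ' hφ fun h => hφ0 (h ▸ h0), mul_zero]
      rw [h2] at h1
      have h3 := (Finset.sum_eq_zero_iff.1 (by exact_mod_cast h1.symm :
        ∑ η : IrrCharacter L, m η * a η = 0)) ψ (Finset.mem_univ _)
      rcases Nat.mul_eq_zero.1 h3 with h | h
      · exact hm h
      · exact hφ0 (by rw [ha, h, Nat.cast_zero])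
    obtain ⟨β, hβ⟩ := CharDeep.Glauberman.exists_ext_mul (π := π)
      (QuotientGroup.mk'_surjective _) (QuotientGroup.ker_mk' _) hΘ hθ'
      (fun n => hres ⟨_, Subgroup.mem_subgroupOf.1 n.2⟩) ψ.2 hover
    refine ⟨(β : L ⧸ K.subgroupOf L → ℂ) (π ⟨x, Subgroup.mem_sup_right (Subgroup.mem_zpowers x)⟩),
      fun k => ?_⟩
    rw [hβ, Pi.mul_apply, Function.comp_apply, mul_comm]
    congr 1
    refine congrArg _ (QuotientGroup.eq.2 (Subgroup.mem_subgroupOf.2 ?_))
    simp [K.inv_mem k.2]
  choose a ha using hval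
  refine ⟨∑ ψ : IrrCharacter L, (m ψ : ℂ) * (if h : m ψ = 0 then 0 else a ψ h), fun k => ?_⟩
  have h := hexp ⟨x * k, L.mul_mem (Subgroup.mem_sup_right (Subgroup.mem_zpowers x)) (hKL k.2)⟩
  refine h.trans ?_
  rw [Finset.sum_mul]
  refine Finset.sum_congr rfl fun ψ _ => ?_
  by_cases h0 : m ψ = 0
  · simp [h0]
  · rw [dif_neg h0, ha ψ h0, mul_assoc]

/-- At most `k(G/K)` characters lie over an invariant character of `K`. -/
theorem card_over_le (θ : IrrCharacter K)
    (hinv : ∀ (g : G) (k : K), (θ : K → ℂ) ⟨g * k * g⁻¹, hKn.conj_mem k k.2 g⟩ = (θ : K → ℂ) k) :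
    Nat.card {χ : IrrCharacter G // classInner (fun k : K => (χ : G → ℂ) k) (θ : K → ℂ) ≠ 0} ≤
      Nat.card (ConjClasses (G ⧸ K)) := by
  classical
  choose E hE using exists_coset_fun θ hinv
  haveI : Fintype (ConjClasses (G ⧸ K)) := Fintype.ofFinite _
  have hrep : ∀ C : ConjClasses (G ⧸ K), ∃ x : G, ConjClasses.mk (x : G ⧸ K) = C := fun C => by
    obtain ⟨q, rfl⟩ := ConjClasses.exists_rep C
    obtain ⟨x, rfl⟩ := QuotientGroup.mk_surjective q
    exact ⟨x, rfl⟩
  choose x hx using hrep
  let S := {χ : IrrCharacter G // classInner (fun k : K => (χ : G → ℂ) k) (θ : K → ℂ) ≠ 0}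
  choose c hc using fun (χ : S) (C : ConjClasses (G ⧸ K)) => hE (x C) χ.1 χ.2
  have hli : LinearIndependent ℂ fun χ : S => c χ := by
    rw [Fintype.linearIndependent_iff]
    intro g hg
    refine Fintype.linearIndependent_iff.1
      (Char.linearIndependent_irr.comp (fun χ : S => χ.1) Subtype.val_injective) g (funext fun y => ?_)
    obtain ⟨q, hq⟩ := isConj_iff.1 (ConjClasses.mk_eq_mk_iff_isConj.1
      (hx (ConjClasses.mk (y : G ⧸ K))))
    obtain ⟨u, rfl⟩ := QuotientGroup.mk_surjective q
    set C := ConjClasses.mk (y : G ⧸ K)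
    have hk : (x C)⁻¹ * (u⁻¹ * y * u) ∈ K := by
      rw [← QuotientGroup.eq, QuotientGroup.mk_mul, QuotientGroup.mk_mul, QuotientGroup.mk_inv, ← hq]
      group
    rw [Finset.sum_apply, Pi.zero_apply]
    have hterm : ∀ χ : S, (χ.1 : G → ℂ) y = c χ C * E (x C) ⟨_, hk⟩ := fun χ => by
      rw [← hc χ C ⟨_, hk⟩, mul_inv_cancel_left]
      have := Char.IsIrrCharacter.isClassFunction χ.1.2 y u⁻¹
      rw [inv_inv] at this
      exact this.symm
    calc ∑ χ : S, (g χ • (χ.1 : G → ℂ)) y
        = (∑ χ : S, g χ • c χ) C * E (x C) ⟨_, hk⟩ := by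
          rw [Finset.sum_apply, Finset.sum_mul]
          exact Finset.sum_congr rfl fun χ _ => by
            simp only [Pi.smul_apply, smul_eq_mul, hterm, mul_assoc]
      _ = 0 := by rw [hg, Pi.zero_apply, zero_mul]
  have := hli.fintype_card_le_finrank
  rwa [Module.finrank_pi, ← Nat.card_eq_fintype_card, ← Nat.card_eq_fintype_card] at this

end CfsgLib.Solvable.BlockSize
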