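import Cfsg.Agent.Lib.Solvable.BlockSize.Linear
import Cfsg.Agent.Lib.Solvable.FrattiniFitting

/-!
# Classes of a solvable group without normal subgroups of order prime to `p`
-/

set_option autoImplicit false
set_option linter.style.haveILetI false

namespace CfsgLib.Solvable.BlockSize

open CfsgLib.Perm.OddBase CfsgLib.Solvable.LinearClasses CfsgLib.Solvable.FrattiniFitting
open scoped commutatorElement

theorem frattini_quotient_eq_bot {X : Type*} [Group X] [Finite X] :
    frattini (X ⧸ frattini X) = ⊥ := by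
  refine (Subgroup.eq_bot_iff_forall _).2 fun y hy => ?_
  obtain ⟨x, rfl⟩ := QuotientGroup.mk_surjective y
  refine (QuotientGroup.eq_one_iff x).2 ?_
  refine Subgroup.mem_iInf.2 fun M => Subgroup.mem_iInf.2 fun hM => ?_
  have hle : frattini X ≤ M := frattini_le_coatom hM
  have hco : IsCoatom (M.map (QuotientGroup.mk' (frattini X))) := by
    refine ⟨fun h => hM.1 ?_, fun K hK => ?_⟩
    · have := congrArg (Subgroup.comap (QuotientGroup.mk' (frattini X))) h
      rwa [Subgroup.comap_map_eq, QuotientGroup.ker_mk', sup_eq_left.2 hle, Subgroup.comap_top] at this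
    · have h2 : M < K.comap (QuotientGroup.mk' (frattini X)) := by
        have := (Subgroup.comap_lt_comap_of_surjective
          (QuotientGroup.mk'_surjective (frattini X))).2 hK
        rwa [Subgroup.comap_map_eq, QuotientGroup.ker_mk', sup_eq_left.2 hle] at this
      rw [← Subgroup.map_comap_eq_self_of_surjective (QuotientGroup.mk'_surjective _) K, hM.2 _ h2,
        Subgroup.map_top_of_surjective _ (QuotientGroup.mk'_surjective _)]
  obtain ⟨m, hm, he⟩ := frattini_le_coatom hco hy
  obtain ⟨q, hq, rfl⟩ : ∃ q ∈ frattini X, m * q = x :=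
    ⟨m⁻¹ * x, QuotientGroup.eq.1 he, mul_inv_cancel_left m x⟩
  exact M.mul_mem hm (hle hq)

/-- The bound for a group with an abelian self-centralizing complemented normal `p`-subgroup. -/
theorem classes_le_of_complement {Y : Type} [Group Y] [Finite Y] [Group.IsSolvable Y] {p m : ℕ}
    (hp : p.Prime) (hp5 : 5 ≤ p) (F : Subgroup Y) [F.Normal] (hFc : IsMulCommutative F)
    (hFm : Nat.card F = p ^ m) (hm : 1 ≤ m) (hcen : Subgroup.centralizer (F : Set Y) ≤ F)
    (hΦ : frattini Y = ⊥) : Nat.card (ConjClasses Y) ≤ 3 ^ (m - 1) * p ^ m := by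
  classical
  obtain ⟨H, hH⟩ := exists_complement_of_inf_frattini F hFc (by rw [hΦ, inf_bot_eq])
  letI : CommGroup F := { (inferInstance : Group F) with mul_comm := hFc.is_comm.comm }
  let V := Additive F
  letI actV : DistribMulAction H V :=
    { smul := fun h x => Additive.ofMul (MulAut.conjNormal (h : Y) (Additive.toMul x) : F)
      one_smul := fun x => congrArg Additive.ofMul
        (show MulAut.conjNormal ((1 : H) : Y) (Additive.toMul x) = Additive.toMul x by simp)
      mul_smul := fun a b x => congrArg Additive.ofMul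
        (show MulAut.conjNormal ((a * b : H) : Y) (Additive.toMul x) =
            MulAut.conjNormal (a : Y) (MulAut.conjNormal (b : Y) (Additive.toMul x)) by
          rw [Subgroup.coe_mul, map_mul, MulAut.mul_apply])
      smul_zero := fun a => congrArg Additive.ofMul (map_one (MulAut.conjNormal (a : Y)))
      smul_add := fun a x y => congrArg Additive.ofMul
        (map_mul (MulAut.conjNormal (a : Y)) (Additive.toMul x) (Additive.toMul y)) }
  have hval : ∀ (h : H) (x : V),
      ((Additive.toMul (h • x) : F) : Y) = (h : Y) * ((Additive.toMul x : F) : Y) * (h : Y)⁻¹ :=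
    fun h x => MulAut.conjNormal_apply _ _
  haveI : FaithfulSMul H V := ⟨fun {a b} hab => by
    have h1 : ((a⁻¹ * b : H) : Y) ∈ Subgroup.centralizer (F : Set Y) := by
      refine Subgroup.mem_centralizer_iff.2 fun f hf => ?_
      have h3 : (a⁻¹ * b) • (Additive.ofMul ⟨f, hf⟩ : V) = Additive.ofMul ⟨f, hf⟩ := by
        rw [mul_smul, ← hab, inv_smul_smul]
      have h4 := congrArg (fun z : V => ((Additive.toMul z : F) : Y)) h3
      simp only [hval, toMul_ofMul] at h4
      exact (mul_inv_eq_iff_eq_mul.1 h4).symm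
    have h5 : ((a⁻¹ * b : H) : Y) = 1 := by
      rw [← Subgroup.mem_bot, ← hH.disjoint.eq_bot]
      exact ⟨hcen h1, (a⁻¹ * b : H).2⟩
    exact inv_mul_eq_one.1 (Subtype.ext h5)⟩
  have hcr : IsCR H V := by
    intro U hU
    let U' : Subgroup Y := (AddSubgroup.toSubgroup' U).map F.subtype
    have hmemU : ∀ x : F, (x : Y) ∈ U' ↔ Additive.ofMul x ∈ U := fun x => by
      constructor
      · rintro ⟨y, hy, he⟩
        rw [← Subtype.ext he]
        exact hy
      · exact fun h => ⟨x, h, rfl⟩
    have hU'F : U' ≤ F := Subgroup.map_subtype_le _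
    haveI : U'.Normal := ⟨fun u hu y => by
      obtain ⟨⟨⟨f, hf⟩, ⟨h, hh⟩⟩, rfl⟩ := hH.2 y
      obtain ⟨u', hu', rfl⟩ := hu
      show f * h * (u' : Y) * (f * h)⁻¹ ∈ U'
      have h1 : h * (u' : Y) * h⁻¹ ∈ U' := by
        have h2 := (hmemU (Additive.toMul ((⟨h, hh⟩ : H) • (Additive.ofMul u' : V)))).2
          (by simpa using hU ⟨h, hh⟩ (Additive.ofMul u') hu')
        rwa [hval, toMul_ofMul] at h2
      have h3 : f * (h * (u' : Y) * h⁻¹) * f⁻¹ = h * (u' : Y) * h⁻¹ := by
        have h4 := congrArg Subtype.val (hFc.is_comm.comm (⟨f, hf⟩ : F) ⟨_, hU'F h1⟩)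
        simp only [Subgroup.coe_mul] at h4
        rw [h4, mul_inv_cancel_right]
      rw [show f * h * (u' : Y) * (f * h)⁻¹ = f * (h * (u' : Y) * h⁻¹) * f⁻¹ by group, h3]
      exact h1⟩
    obtain ⟨K, hK⟩ := exists_complement_of_inf_frattini U'
      (⟨⟨fun a b => Subtype.ext
        (congrArg Subtype.val (hFc.is_comm.comm (⟨a, hU'F a.2⟩ : F) ⟨b, hU'F b.2⟩) :)⟩⟩)
      (by rw [hΦ, inf_bot_eq])
    let W' : Subgroup F := K.comap F.subtype
    refine ⟨Subgroup.toAddSubgroup W', fun h x hx => ?_, ?_, ?_⟩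
    · show ((Additive.toMul (h • x) : F) : Y) ∈ K
      have hx' : ((Additive.toMul x : F) : Y) ∈ K := hx
      rw [hval]
      obtain ⟨⟨⟨u, hu⟩, ⟨k, hk⟩⟩, hy⟩ := hK.2 (h : Y)
      have hy' : u * k = (h : Y) := hy
      rw [← hy']
      have h1 : k * ((Additive.toMul x : F) : Y) * k⁻¹ ∈ F :=
        Subgroup.Normal.conj_mem inferInstance _ (Additive.toMul x).2 k
      have h4 := congrArg Subtype.val (hFc.is_comm.comm (⟨u, hU'F hu⟩ : F) ⟨_, h1⟩)
      simp only [Subgroup.coe_mul] at h4
      rw [show u * k * ((Additive.toMul x : F) : Y) * (u * k)⁻¹ =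
        u * (k * ((Additive.toMul x : F) : Y) * k⁻¹) * u⁻¹ by group, h4, mul_inv_cancel_right]
      exact K.mul_mem (K.mul_mem hk hx') (K.inv_mem hk)
    · refine (AddSubgroup.eq_bot_iff_forall _).2 fun x hx => ?_
      have h1 : ((Additive.toMul x : F) : Y) ∈ U' ⊓ K := ⟨(hmemU _).2 hx.1, hx.2⟩
      rw [hK.disjoint.eq_bot, Subgroup.mem_bot] at h1
      exact congrArg Additive.ofMul (Subtype.ext h1)
    · refine (AddSubgroup.eq_top_iff' _).2 fun x => ?_
      obtain ⟨⟨⟨u, hu⟩, ⟨k, hk⟩⟩, hy⟩ := hK.2 ((Additive.toMul x : F) : Y)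
      have hy' : u * k = ((Additive.toMul x : F) : Y) := hy
      have hkF : k ∈ F := by
        rw [show k = u⁻¹ * (u * k) by group, hy']
        exact F.mul_mem (F.inv_mem (hU'F hu)) (Additive.toMul x).2
      exact AddSubgroup.mem_sup.2 ⟨Additive.ofMul ⟨u, hU'F hu⟩, (hmemU _).1 hu,
        Additive.ofMul ⟨k, hkF⟩, hk, congrArg Additive.ofMul (Subtype.ext hy')⟩
  haveI : Finite V := inferInstanceAs (Finite F)
  haveI := finite_aff (G := H) (V := V)
  have hVm : Nat.card V = p ^ m := hFm
  have hb := aff_below hp hp5 (m + 1) H V inferInstance hcr m hm (Nat.lt_succ_self m) hVm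
  let f : Aff H V →* Y :=
    MonoidHom.mk' (fun z => ((Additive.toMul (tr z) : F) : Y) * (z.right : Y)) fun a b => by
      simp only [tr_mul, toMul_add, Subgroup.coe_mul, SemidirectProduct.mul_right, hval]
      group
  have hf : Function.Surjective f := fun y => by
    obtain ⟨⟨⟨u, hu⟩, ⟨k, hk⟩⟩, hy⟩ := hH.2 y
    exact ⟨⟨Multiplicative.ofAdd (Additive.ofMul ⟨u, hu⟩), ⟨k, hk⟩⟩, hy⟩
  exact (FB.of_surjective f hf hb).top

/-- The bound on the class number. -/
theorem classes_le {X : Type} [Group X] [Finite X] [Group.IsSolvable X] {p : ℕ} [Fact p.Prime]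
    (hp5 : 5 ≤ p) (hcore : Cfsg.pPrimeCore p X = ⊥) (hd : 1 ≤ (Nat.card X).factorization p) :
    Nat.card (ConjClasses X) ≤
      3 ^ ((Nat.card X).factorization p - 1) * p ^ (Nat.card X).factorization p := by
  classical
  have hp : p.Prime := Fact.out
  haveI : Nontrivial X := by
    by_contra h
    rw [not_nontrivial_iff_subsingleton] at h
    rw [Nat.card_eq_one_iff_unique.2 ⟨h, ⟨1⟩⟩] at hd
    simp at hd
  have hFX : Cfsg.fittingSubgroup X = Cfsg.pCore p X :=
    CfsgLib.Solvable.Cores.fittingSubgroup_eq_pCore p hcore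
  have hΦF : frattini X ≤ Cfsg.pCore p X := hFX ▸
    CfsgLib.Solvable.Cores.le_fittingSubgroup (frattini_nilpotent (G := X))
  set Y := X ⧸ frattini X with hYdef
  haveI : Finite Y := Quotient.finite _
  haveI : Group.IsSolvable Y :=
    Group.isSolvable_of_surjective (QuotientGroup.mk'_surjective (frattini X))
  haveI : Nontrivial Y := QuotientGroup.nontrivial_iff.2 fun h => by
    have : (⊥ : Subgroup X) = ⊤ := frattini_nongenerating (by rw [h, bot_sup_eq])
    exact bot_ne_top this
  set F := Cfsg.fittingSubgroup Y with hF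
  have hFp : IsPGroup p F := by
    rw [hF, fittingSubgroup_quotient_frattini, hFX]
    exact (CfsgLib.Solvable.Cores.isPGroup_pCore p).map _
  haveI : Group.IsNilpotent F := hFp.isNilpotent
  have hFc : IsMulCommutative F := by
    refine ⟨⟨fun a b => Subtype.ext ?_⟩⟩
    have h1 : ⁅a, b⁆ ∈ frattini F := commutator_le_frattini
      (Subgroup.commutator_mem_commutator (Subgroup.mem_top a) (Subgroup.mem_top b))
    have h2 : ((⁅a, b⁆ : F) : Y) ∈ frattini Y := frattini_subtype_le F ⟨_, h1, rfl⟩
    rw [frattini_quotient_eq_bot, Subgroup.mem_bot] at h2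
    exact congrArg Subtype.val (commutatorElement_eq_one_iff_mul_comm.1 (Subtype.ext h2))
  obtain ⟨m, hm⟩ := hFp.exists_card_eq
  have hm1 : 1 ≤ m := Nat.pos_of_ne_zero fun h => by
    rw [h, pow_zero, Subgroup.card_eq_one] at hm
    exact CfsgLib.Solvable.Cores.fittingSubgroup_ne_bot (G := Y) hm
  have hY := classes_le_of_complement hp hp5 F hFc hm hm1
    CfsgLib.Solvable.Cores.centralizer_fittingSubgroup_le frattini_quotient_eq_bot
  obtain ⟨i, hi⟩ := ((CfsgLib.Solvable.Cores.isPGroup_pCore p).to_le hΦF).exists_card_eq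
  have hk : Nat.card (ConjClasses X) ≤ p ^ i * (3 ^ (m - 1) * p ^ m) :=
    (card_classes_le_mul (frattini X)).trans (Nat.mul_le_mul
      (hi ▸ Nat.card_le_card_of_surjective _ ConjClasses.mk_surjective) hY)
  have hmd : i + m ≤ (Nat.card X).factorization p := by
    have h1 : p ^ (i + m) ∣ Nat.card X := by
      rw [pow_add, ← hi, ← hm, ← (frattini X).card_mul_index]
      exact Nat.mul_dvd_mul_left _ (Subgroup.card_subgroup_dvd_card F)
    exact (hp.pow_dvd_iff_le_factorization Nat.card_pos.ne').1 h1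
  refine hk.trans ?_
  rw [show p ^ i * (3 ^ (m - 1) * p ^ m) = 3 ^ (m - 1) * p ^ (i + m) by ring]
  exact Nat.mul_le_mul (Nat.pow_le_pow_right (by norm_num) (by omega))
    (Nat.pow_le_pow_right hp.pos hmd)

end CfsgLib.Solvable.BlockSize
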