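import Cfsg.Agent.Lib.Solvable.BlockSize.Count
import Cfsg.Agent.Lib.Solvable.BlockSize.Layers

/-!
# Classes of the affine group over the lower layers
-/

set_option autoImplicit false
set_option linter.style.haveILetI false

namespace CfsgLib.Solvable.BlockSize

open CfsgLib.Solvable.LinearClasses
open scoped commutatorElement

theorem arith_one {N b kB k : ℕ} (hk : k * b ≤ kB * b + (N - 1)) (hkB : kB ≤ b) (hb : 1 ≤ b)
    (hbN : b + 1 ≤ N) : k ≤ N := by
  obtain ⟨m, rfl⟩ : ∃ m, N = m + 1 := ⟨N - 1, by omega⟩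
  refine Nat.le_of_mul_le_mul_right (hk.trans ?_) hb
  simp only [Nat.add_sub_cancel]
  have h1 : kB * b ≤ b * b := Nat.mul_le_mul_right _ hkB
  nlinarith

theorem five_pow_ge : ∀ e : ℕ, 4 ≤ e → 9 * (e + 1) * (e + 1) ≤ 5 ^ e ∧ 6 * e * e ≤ 5 ^ (e - 1) := by
  intro e he
  induction e, he using Nat.le_induction with
  | base => norm_num
  | succ e he ih =>
    have h1 : 5 ^ (e + 1 - 1) = 5 * 5 ^ (e - 1) := by
      rw [← pow_succ']; congr 1; omega
    constructor
    · rw [pow_succ]; nlinarith [ih.1]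
    · rw [h1]; nlinarith [ih.2]

/-- The two size conditions of the general case. -/
theorem conditions {Q d e N : ℕ} (hQ5 : 5 ≤ Q) (hQp : Q.Prime) (he : 2 ≤ e) (hed : e ≤ d)
    (hN : N = Q ^ d) (hne : ¬ (e = 2 ∧ d = 2)) (hdvd : ∀ q, q.Prime → q ∣ e → q ∣ Q - 1) :
    6 * (e * e) * (Q - 1) ≤ N ∧ 9 * (e + 1) * (e + 1) ≤ N := by
  have hQd : ∀ k, k ≤ d → Q ^ k ≤ N := fun k hk => hN ▸ Nat.pow_le_pow_right (by omega) hk
  have hQ1 : Q - 1 ≤ Q := Nat.sub_le _ _
  rcases Nat.lt_or_ge e 4 with h4 | h4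
  · rcases (show e = 2 ∨ e = 3 by omega) with rfl | rfl
    · have h3 : Q ^ 3 ≤ N := hQd 3 (by omega)
      have hQ2 : 25 ≤ Q * Q := Nat.mul_le_mul hQ5 hQ5
      constructor
      · nlinarith
      · nlinarith
    · have h3 : Q ^ 3 ≤ N := hQd 3 hed
      have hQ7 : 7 ≤ Q := by
        have h3' := hdvd 3 Nat.prime_three dvd_rfl
        by_contra h
        have : Q = 5 ∨ Q = 6 := by omega
        rcases this with rfl | rfl
        · norm_num at h3'
        · norm_num at hQp
      have hQ2 : 49 ≤ Q * Q := Nat.mul_le_mul hQ7 hQ7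
      obtain ⟨q, rfl⟩ : ∃ q, Q = q + 7 := ⟨Q - 7, by omega⟩
      constructor
      · refine le_trans ?_ h3
        rw [show q + 7 - 1 = q + 6 by omega]
        nlinarith [Nat.zero_le (q * q * q), Nat.zero_le (q * q)]
      · refine le_trans ?_ h3
        nlinarith
  · obtain ⟨h1, h2⟩ := five_pow_ge e h4
    have hp : Q ^ e ≤ N := hQd e hed
    constructor
    · refine le_trans ?_ hp
      calc 6 * (e * e) * (Q - 1) ≤ 5 ^ (e - 1) * Q :=
            Nat.mul_le_mul (by rw [← mul_assoc]; exact h2) hQ1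
        _ ≤ Q ^ (e - 1) * Q := Nat.mul_le_mul_right _ (Nat.pow_le_pow_left hQ5 _)
        _ = Q ^ e := by rw [← pow_succ]; congr 1; omega
    · exact le_trans h1 ((Nat.pow_le_pow_left hQ5 _).trans hp)

theorem arith_general {N X b t kB k e c : ℕ} (hk : k * b ≤ kB * b + (N - 1) +
    (e + 1) * ((X - 1) * (b - t))) (hkB : kB ≤ b) (hb : 2 ≤ b) (hX : X * X ≤ N)
    (hbc : b ≤ c) (hc : 6 * c ≤ N) (he : 9 * (e + 1) * (e + 1) ≤ N) : k ≤ N := by
  have hX2 : (3 * ((e + 1) * X)) * (3 * ((e + 1) * X)) ≤ N * N := by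
    calc (3 * ((e + 1) * X)) * (3 * ((e + 1) * X)) = (9 * (e + 1) * (e + 1)) * (X * X) := by ring
      _ ≤ N * N := Nat.mul_le_mul he hX
  have hX3 : 3 * ((e + 1) * X) ≤ N := Nat.mul_self_le_mul_self_iff.1 hX2
  refine Nat.le_of_mul_le_mul_right (hk.trans ?_) (by omega : 0 < b)
  have h1 : (e + 1) * ((X - 1) * (b - t)) ≤ (e + 1) * X * b := by
    rw [mul_assoc]
    exact Nat.mul_le_mul_left _ (Nat.mul_le_mul (Nat.sub_le _ _) (Nat.sub_le _ _))
  have h2 : kB * b ≤ b * b := Nat.mul_le_mul_right _ hkB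
  have h3 : 2 * b + 2 * ((e + 1) * X) ≤ N := by omega
  have h4 : (2 * b + 2 * ((e + 1) * X)) * b ≤ N * b := Nat.mul_le_mul_right _ h3
  have h5 : 2 * N ≤ b * N := Nat.mul_le_mul_right _ hb
  have h6 : N - 1 ≤ N := Nat.sub_le _ _
  nlinarith

theorem arith_seven {Q b t k kB : ℕ} (hQ : 7 ≤ Q)
    (hk : k * b ≤ kB * b + (Q * Q - 1) + 3 * ((Q - 1) * (b - t))) (hkB : kB ≤ b) (hb : 2 ≤ b)
    (hbQ : b ≤ 4 * (Q - 1)) : k ≤ Q * Q := by
  obtain ⟨q, rfl⟩ : ∃ q, Q = q + 7 := ⟨Q - 7, by omega⟩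
  obtain ⟨i, rfl⟩ : ∃ i, b = i + 2 := ⟨b - 2, by omega⟩
  refine Nat.le_of_mul_le_mul_right (hk.trans ?_) (by omega : 0 < i + 2)
  have h1 : 3 * ((q + 7 - 1) * (i + 2 - t)) ≤ 3 * ((q + 6) * (i + 2)) :=
    Nat.mul_le_mul_left _ (Nat.mul_le_mul (by omega) (Nat.sub_le _ _))
  have h2 : kB * (i + 2) ≤ (i + 2) * (i + 2) := Nat.mul_le_mul_right _ hkB
  have h3 : i ≤ 4 * q + 22 := by omega
  have h4 : (q + 7) * (q + 7) - 1 ≤ (q + 7) * (q + 7) := Nat.sub_le _ _
  obtain ⟨j, hj⟩ : ∃ j, i + j = 4 * q + 22 := ⟨4 * q + 22 - i, by omega⟩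
  nlinarith [Nat.zero_le (i * j), Nat.zero_le (q * q * i), Nat.zero_le (q * i), Nat.zero_le (q * q)]

variable {G V : Type} [Group G] [Finite G] [AddCommGroup V] [Finite V] [DistribMulAction G V]

/-- Half of the space is the most an element outside the scalars can fix. -/
theorem half_of_nondeg {U M : Subgroup G} (hfpf : ∀ u ∈ U, u ≠ 1 → ∀ x : V, u • x = x → x = 0)
    (hcomm : ∀ a ∈ M, ∀ b ∈ M, ⁅a, b⁆ ∈ U)
    (hnd : ∀ m ∈ M, m ∉ U → ∃ f ∈ M, ⁅m, f⁆ ≠ 1) :
    ∀ m ∈ M, m ∉ U → Nat.card {x : V // m • x = x} ^ 2 ≤ Nat.card V := by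
  intro m hm hmU
  obtain ⟨f, hf, hne⟩ := hnd m hm hmU
  have hz := hfpf _ (hcomm m hm f hf) hne
  rw [pow_two, ← Nat.card_prod]
  refine Nat.card_le_card_of_injective
    (fun x : {x : V // m • x = x} × {x : V // m • x = x} => x.1.1 - f • x.2.1) ?_
  rintro ⟨⟨a, ha⟩, ⟨b, hb⟩⟩ ⟨⟨a', ha'⟩, ⟨b', hb'⟩⟩ h
  change a - f • b = a' - f • b' at h
  have e1 : a - a' = f • (b - b') := by rw [smul_sub]; exact sub_eq_sub_iff_sub_eq_sub.1 h
  have hm1 : m • (a - a') = a - a' := by rw [smul_sub, ha, ha']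
  have hm2 : m • (b - b') = b - b' := by rw [smul_sub, hb, hb']
  have hm2' : m⁻¹ • (b - b') = b - b' := by rw [inv_smul_eq_iff, hm2]
  have h0 : a - a' = 0 := hz _ (by
    rw [commutatorElement_def, mul_smul, mul_smul, mul_smul, e1, inv_smul_smul, hm2', ← e1, hm1])
  have hb0 : b - b' = 0 := (smul_eq_zero_iff_eq f).1 (e1 ▸ h0)
  simp only [Prod.mk.injEq, Subtype.mk.injEq]
  exact ⟨sub_eq_zero.1 h0, sub_eq_zero.1 hb0⟩

/-- The number of classes of a nonabelian layer of order at most sixteen. -/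
theorem classes_small {U M : Subgroup G} (hU : Nat.card U ≤ 4) (hM : Nat.card M ≤ 16)
    (hnd : ∀ m ∈ M, m ∉ U → ∃ f ∈ M, ⁅m, f⁆ ≠ 1) :
    Nat.card (ConjClasses M) ≤ 11 := by
  have h := card_classes_lt (G := M) {y : M | (y : G) ∈ U} (z := 4) (M := 8) U.one_mem
    (by norm_num) ?_ ?_
  · omega
  · rw [← Nat.card_coe_set_eq]
    refine le_trans (Nat.card_le_card_of_injective (β := U) (fun y => ⟨y.1.1, y.2⟩) ?_) hU
    intro a b hab
    exact Subtype.ext (Subtype.ext (congrArg Subtype.val hab :))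
  · intro y hy
    obtain ⟨f, hf, hne⟩ := hnd y.1 y.2 hy
    set C := Subgroup.centralizer ({y} : Set M) with hC
    have hCtop : C ≠ ⊤ := fun h => hne (commutatorElement_eq_one_iff_mul_comm.2 (congrArg Subtype.val
      (Subgroup.mem_centralizer_singleton_iff.1 (show (⟨f, hf⟩ : M) ∈ C by rw [h]; trivial))).symm)
    have h2 : 2 ≤ C.index := by
      have := Subgroup.index_ne_zero_of_finite (H := C)
      have := mt Subgroup.index_eq_one.1 hCtop
      omega
    have hC8 : Nat.card C ≤ 8 := by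
      have := C.card_mul_index
      have : Nat.card C * 2 ≤ Nat.card M := this ▸ Nat.mul_le_mul_left _ h2
      omega
    refine le_trans (Nat.card_le_card_of_injective (β := C)
      (fun x => ⟨x.1, Subgroup.mem_centralizer_singleton_iff.2 x.2.eq.symm⟩) ?_) hC8
    intro a b hab
    exact Subtype.ext (congrArg Subtype.val hab :)

/-- A layer of scalars: `e = 1`. -/
theorem classes_scalar (hcop : (Nat.card V).Coprime (Nat.card G)) {U : Subgroup G}
    (hfpf : ∀ u ∈ U, u ≠ 1 → ∀ x : V, u • x = x → x = 0) (hUab : ∀ a ∈ U, ∀ b ∈ U, a * b = b * a)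
    (hUcard : Nat.card U + 1 ≤ Nat.card V)
    (Y : Subgroup (Aff G V)) (hY : Y.map SemidirectProduct.rightHom ≤ U) :
    Nat.card (ConjClasses Y) ≤ Nat.card V := by
  have L : Layers U U V 1 :=
    { le := le_rfl
      fpf := hfpf
      comm := fun a ha b hb => by
        rw [commutatorElement_eq_one_iff_mul_comm.2 (hUab a ha b hb)]; exact U.one_mem
      half := fun m hm hm' => absurd hm hm'
      iso := fun S hS hSU => by rw [inf_eq_left.2 hS] at hSU; rw [hSU, Subgroup.card_bot] }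
  set B := Y.map SemidirectProduct.rightHom with hB
  have h := (classes_mul_le hcop Y).trans (triple_le L B hY)
  rw [inf_eq_right.2 hY, Nat.sub_self, mul_zero, mul_zero, add_zero] at h
  exact arith_one h (Nat.card_le_card_of_surjective _ ConjClasses.mk_surjective) Nat.card_pos
    (le_trans (Nat.add_le_add_right (Subgroup.card_le_of_le hY) 1) hUcard)

/-- The classes over the second layer. -/
theorem classes_layer (hcop : (Nat.card V).Coprime (Nat.card G)) {U M : Subgroup G}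
    {Q d e : ℕ} (L : Layers U M V e) (hQ5 : 5 ≤ Q) (hQp : Q.Prime) (he : 2 ≤ e) (hed : e ≤ d)
    (hV : Nat.card V = Q ^ d) (hdvd : ∀ q, q.Prime → q ∣ e → q ∣ Q - 1)
    (hU : Nat.card U ∣ Q - 1) (hM : Nat.card M = Nat.card U * (e * e))
    (hnd : ∀ m ∈ M, m ∉ U → ∃ f ∈ M, ⁅m, f⁆ ≠ 1)
    (Y : Subgroup (Aff G V)) (hY : Y.map SemidirectProduct.rightHom ≤ M) :
    Nat.card (ConjClasses Y) ≤ Nat.card V := by
  set B := Y.map SemidirectProduct.rightHom with hB
  have hkB : Nat.card (ConjClasses B) ≤ Nat.card B :=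
    Nat.card_le_card_of_surjective _ ConjClasses.mk_surjective
  have h := (classes_mul_le hcop Y).trans (triple_le L B hY)
  set N := Nat.card V with hN
  set k := Nat.card (ConjClasses Y) with hk
  set t := Nat.card (U ⊓ B : Subgroup G) with ht
  set b := Nat.card B with hb
  set X := Nat.sqrt N with hX
  have hXX : X * X ≤ N := Nat.sqrt_le N
  have ht1 : 1 ≤ t := Nat.card_pos
  have hUle : Nat.card U ≤ Q - 1 := Nat.le_of_dvd (by omega) hU
  have htU : t ≤ Nat.card U := Subgroup.card_le_of_le inf_le_left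
  have hbM : b ∣ Nat.card M := Subgroup.card_dvd_of_le hY
  have hbt : b ≤ t * (e * e) := by
    have h1 : U.relIndex M = e * e := by
      have h3 := (U.subgroupOf M).card_mul_index
      rw [Nat.card_congr (Subgroup.subgroupOfEquivOfLe L.le).toEquiv, hM] at h3
      exact Nat.eq_of_mul_eq_mul_left Nat.card_pos h3
    have h2 : U.relIndex B ≤ U.relIndex M := Subgroup.relIndex_le_of_le_right hY
      (by rw [h1]; exact Nat.ne_of_gt (Nat.mul_pos (by omega) (by omega)))
    have h3 := (U.subgroupOf B).card_mul_index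
    rw [show Nat.card (U.subgroupOf B) = t by
      rw [ht, ← Subgroup.inf_subgroupOf_right U B]
      exact Nat.card_congr (Subgroup.subgroupOfEquivOfLe inf_le_right).toEquiv] at h3
    rw [← hb, ← h1] at *
    rw [← h3]
    exact Nat.mul_le_mul_left _ h2
  rcases Nat.lt_or_ge b 2 with hb2 | hb2
  · have hb1 : b = 1 := by have : 0 < b := Nat.card_pos; omega
    rw [hb1, show (1 : ℕ) - t = 0 by omega, mul_zero, mul_zero, mul_one, mul_one] at h
    have : 1 ≤ N := Nat.card_pos
    omega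
  by_cases hexc : e = 2 ∧ d = 2
  · obtain ⟨rfl, rfl⟩ := hexc
    have hXQ : X = Q := by rw [hX, hV]; exact Nat.sqrt_eq' Q
    rw [hXQ, hV, pow_two] at h
    rw [hV, pow_two]
    rcases Nat.lt_or_ge Q 7 with h7 | h7
    · obtain rfl : Q = 5 := by
        have : Q = 5 ∨ Q = 6 := by omega
        rcases this with h | h
        · exact h
        · rw [h] at hQp; norm_num at hQp
      rcases Nat.lt_or_ge b 13 with h13 | h13
      · have h2 : Nat.card (ConjClasses B) * b ≤ b * b := Nat.mul_le_mul_right _ hkB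
        refine Nat.le_of_mul_le_mul_right (h.trans ?_) (by omega : 0 < b)
        interval_cases b <;> omega
      · have hb16 : b ≤ 16 := by omega
        have hu : Nat.card U ≤ 4 := hUle
        obtain ⟨m, hm⟩ := hbM
        rw [hM] at hm
        have hb16' : b = 16 := by
          rcases Nat.eq_zero_or_pos m with h0 | h0
          · have : 0 < Nat.card U := Nat.card_pos
            subst h0; omega
          rcases Nat.lt_or_ge m 2 with hm1 | hm1
          · obtain rfl : m = 1 := by omega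
            omega
          · have : b * 2 ≤ b * m := Nat.mul_le_mul_left _ hm1
            omega
        have hBM : B = M := Subgroup.eq_of_le_of_card_ge hY (by rw [hM, ← hb]; omega)
        have hk11 : Nat.card (ConjClasses B) ≤ 11 := by
          rw [hBM]; exact classes_small hu (by rw [hM]; omega) hnd
        rw [hb16'] at h hbt
        omega
    · exact arith_seven h7 h hkB hb2 (hbt.trans (by
        rw [mul_comm]; exact Nat.mul_le_mul_left _ (htU.trans hUle)))
  · obtain ⟨h1, h2⟩ := conditions hQ5 hQp he hed hV hexc hdvd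
    refine arith_general h hkB hb2 hXX (c := (e * e) * (Q - 1)) ?_ (by rw [← mul_assoc]; exact h1) h2
    exact hbt.trans (by rw [mul_comm]; exact Nat.mul_le_mul_left _ (htU.trans hUle))

end CfsgLib.Solvable.BlockSize
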