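import Cfsg.Agent.Lib.Solvable.BlockSize.LayerBound
import Cfsg.Agent.Lib.Solvable.LinearClasses.PermStep

/-!
# Classes of the affine group of a solvable completely reducible group
-/

set_option autoImplicit false
set_option linter.style.haveILetI false

namespace CfsgLib.Solvable.BlockSize

open CfsgLib.Perm.OddBase CfsgLib.Solvable.LinearClasses
open scoped commutatorElement

section Maps

variable {G V H S : Type} [Group G] [AddCommGroup V] [DistribMulAction G V] [Group H]
  [AddCommGroup S] [DistribMulAction H S]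

/-- The map of affine groups given by a compatible pair. -/
def affMap (g : G →* H) (l : V →+ S) (h : ∀ (a : G) (x : V), l (a • x) = g a • l x) :
    Aff G V →* Aff H S :=
  MonoidHom.mk' (fun z => ⟨Multiplicative.ofAdd (l (tr z)), g z.right⟩) fun x y =>
    ext_iff'.2 ⟨by
      show l (tr (x * y)) = l (tr x) + g x.right • l (tr y)
      rw [tr_mul, map_add, h], map_mul g _ _⟩

theorem affMap_eq_one {g : G →* H} {l : V →+ S} {h : ∀ (a : G) (x : V), l (a • x) = g a • l x}
    {z : Aff G V} (hz : affMap g l h z = 1) : l (tr z) = 0 ∧ g z.right = 1 :=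
  ⟨congrArg tr hz, congrArg (fun w : Aff H S => w.right) hz⟩

end Maps

theorem gb_le (e : ℕ) (he : 1 ≤ e) : gb e ≤ 3 ^ (e - 1) := by
  rcases Nat.lt_or_ge e 8 with h | h
  · interval_cases e <;> norm_num [gb]
  · rw [gb_large h, lb]
    refine max_le (Nat.one_le_pow _ _ (by norm_num)) (Nat.div_le_of_le_mul ?_)
    rw [← pow_succ', Nat.sub_add_cancel he]
    clear he
    induction e, h using Nat.le_induction with
    | base => norm_num
    | succ e he ih => rw [pow_succ]; nlinarith [Nat.mul_le_mul he he]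

theorem three_pow_ge (e : ℕ) : 2 * (e * e) ≤ 3 ^ e := by
  match e with
  | 0 => norm_num
  | 1 => norm_num
  | n + 2 =>
    induction n with
    | zero => norm_num
    | succ n ih =>
      rw [pow_succ]
      nlinarith

theorem arith_large {s d e : ℕ} (hs : 2 ≤ s) (he : 1 ≤ e) (hed : e ≤ d) :
    e * e * (s * gb e) ≤ 3 ^ (s * d - 1) := by
  obtain ⟨i, rfl⟩ : ∃ i, s = i + 2 := ⟨s - 2, by omega⟩
  have h1 : e * e * (i + 2) ≤ 3 ^ ((i + 1) * e) := by
    calc e * e * (i + 2) ≤ e * e * (2 * 2 ^ i) :=
          Nat.mul_le_mul_left _ (by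
            rw [← pow_succ']
            exact Nat.lt_two_pow_self (n := i + 1))
      _ = 2 * (e * e) * 2 ^ i := by ring
      _ ≤ 3 ^ e * 3 ^ (e * i) := Nat.mul_le_mul (three_pow_ge e)
          ((Nat.pow_le_pow_left (by norm_num) i).trans
            (Nat.pow_le_pow_right (by norm_num) (Nat.le_mul_of_pos_left i he)))
      _ = 3 ^ ((i + 1) * e) := by rw [← pow_add]; congr 1; ring
  calc e * e * ((i + 2) * gb e) = e * e * (i + 2) * gb e := by ring
    _ ≤ 3 ^ ((i + 1) * e) * 3 ^ (e - 1) := Nat.mul_le_mul h1 (gb_le e he)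
    _ = 3 ^ ((i + 1) * e + (e - 1)) := (pow_add _ _ _).symm
    _ ≤ 3 ^ ((i + 2) * d - 1) := Nat.pow_le_pow_right (by norm_num) (by
        have : (i + 2) * e ≤ (i + 2) * d := Nat.mul_le_mul_left _ hed
        have : (i + 1) * e + e = (i + 2) * e := by ring
        omega)

section Step

variable {G V : Type} [Group G] [Finite G] [AddCommGroup V] [Finite V] [DistribMulAction G V]

/-- The bound through a normal layer. -/
theorem fb_of_layer (M : Subgroup G) [M.Normal] {N g : ℕ}
    (hM : ∀ Y : Subgroup (Aff G V), Y.map SemidirectProduct.rightHom ≤ M →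
      Nat.card (ConjClasses Y) ≤ N)
    (hg : FB (G ⧸ M) g) : FB (Aff G V) (N * g) := by
  haveI := finite_aff (G := G) (V := V)
  let f := (QuotientGroup.mk' M).comp (SemidirectProduct.rightHom (φ := aff G V))
  refine FB.ext f (fun Y => ?_) hg
  let e := Y.equivMapOfInjective f.ker.subtype Subtype.val_injective
  refine le_trans (Nat.card_le_card_of_surjective (ConjClasses.map e.symm.toMonoidHom)
    (ConjClasses.map_surjective e.symm.surjective)) (hM _ ?_)
  rintro _ ⟨_, ⟨z, -, rfl⟩, rfl⟩
  exact (QuotientGroup.eq_one_iff _).1 (show f z = 1 from z.2)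

/-- The field case. -/
theorem fb_field {p n : ℕ} (hp : p.Prime) (hp5 : 5 ≤ p) (hV : Nat.card V = p ^ n)
    [FaithfulSMul G V] [Nontrivial V] [Group.IsSolvable G]
    (hfield : ∀ N : Subgroup G, N.Normal → (∀ a ∈ N, ∀ b ∈ N, a * b = b * a) →
      ∀ r : AddMonoid.End V, r ∈ spanRing N → r ≠ 0 → Function.Injective r) :
    FB (Aff G V) (3 ^ (n - 1) * p ^ n) := by
  obtain ⟨Q, q, s, d, e, U, M, hUn, hMn, hq, hQ, hs, hVQ, he, hed, hdvd, hUM, hU, hM, hfpf, hcen,
    hcomm, hnd, hiso, hfb⟩ := exists_layers hfield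
  have hUab : ∀ a ∈ U, ∀ b ∈ U, a * b = b * a := fun a ha b hb => hcen a (hUM ha) b hb
  have hd : 1 ≤ d := he.trans hed
  have hqp : q = p ∧ s * d = n := by
    rw [hVQ, hQ, ← pow_mul] at hV
    have hsd : 1 ≤ s * d := Nat.one_le_iff_ne_zero.2 (Nat.mul_ne_zero (by omega) (by omega))
    have hn : n ≠ 0 := fun h => by
      rw [h, pow_zero] at hV
      exact absurd hV (Nat.one_lt_pow (by omega) hq.one_lt).ne'
    have h1 : q = p := (Nat.prime_dvd_prime_iff_eq hq hp).1
      (hq.dvd_of_dvd_pow (hV ▸ dvd_pow_self q (by omega)))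
    subst h1
    exact ⟨rfl, Nat.pow_right_injective hp.two_le hV⟩
  obtain ⟨rfl, rfl⟩ := hqp
  have hQ5 : 5 ≤ Q := hQ ▸ hp5.trans (Nat.le_self_pow (by omega) q)
  have hcopU : ∀ r : ℕ, r.Prime → r ∣ Nat.card M → r ≠ q := by
    intro r hr hrM h
    subst h
    have hrQ : r ∣ Q := hQ ▸ dvd_pow_self r (by omega)
    have h1 : ¬ r ∣ Q - 1 := fun h =>
      hr.not_dvd_one (by simpa [Nat.sub_sub_self (by omega : 1 ≤ Q)] using Nat.dvd_sub hrQ h)
    rw [hM] at hrM
    rcases hr.dvd_mul.1 hrM with h | h
    · exact h1 (h.trans hU)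
    · rcases hr.dvd_mul.1 h with h | h <;> exact h1 (hdvd r hr h)
  have hcop : (Nat.card V).Coprime (Nat.card M) := by
    rw [hV]
    refine Nat.Coprime.pow_left _ ((Nat.Prime.coprime_iff_not_dvd hq).2 fun h => ?_)
    exact hcopU q hq h rfl
  have hUle : Nat.card U + 1 ≤ Nat.card V := by
    have h1 : Nat.card U ≤ Q - 1 := Nat.le_of_dvd (by omega) hU
    have h2 : Q ≤ Nat.card V := hVQ ▸ Nat.le_self_pow (by omega) Q
    omega
  -- subgroups over a layer are subgroups of the affine group of that layer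
  have htransfer : ∀ (K : Subgroup G), K ≤ M → ∀ (Y : Subgroup (Aff G V)),
      Y.map SemidirectProduct.rightHom ≤ K →
      (∀ Y' : Subgroup (Aff M V), Y'.map SemidirectProduct.rightHom ≤ K.subgroupOf M →
        Nat.card (ConjClasses Y') ≤ Nat.card V) → Nat.card (ConjClasses Y) ≤ Nat.card V := by
    intro K hK Y hY hbound
    haveI := finite_aff (G := M) (V := V)
    let i : Aff M V →* Aff G V := affMap M.subtype (AddMonoidHom.id V) fun a x => rfl
    have hi : Function.Injective i := (injective_iff_map_eq_one i).2 fun z hz =>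
      ext_iff'.2 ⟨(affMap_eq_one hz).1, Subtype.ext (affMap_eq_one hz).2⟩
    have hYi : (Y.comap i).map i = Y := Subgroup.map_comap_eq_self fun z hz =>
      ⟨⟨Multiplicative.ofAdd (tr z), ⟨z.right, hK (hY ⟨z, hz, rfl⟩)⟩⟩, ext_iff'.2 ⟨rfl, rfl⟩⟩
    let e := (Y.comap i).equivMapOfInjective i hi
    rw [← hYi]
    refine le_trans (Nat.card_le_card_of_surjective (ConjClasses.map e.toMonoidHom)
      (ConjClasses.map_surjective e.surjective)) (hbound _ ?_)
    rintro _ ⟨z, hz, rfl⟩
    exact Subgroup.mem_subgroupOf.2 (hY ⟨i z, hz, rfl⟩)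
  have hsym : FB (G ⧸ M) (s * gb e) := hfb (gb e) fun H S _ _ _ _ _ _ hsol hcr hS =>
    small_bound (lin_perm_bounds _).1 (lin_perm_bounds _).2 hsol hcr hS
  have hpn : 1 ≤ s * d := Nat.one_le_iff_ne_zero.2 (Nat.mul_ne_zero (by omega) (by omega))
  have hfpfM : ∀ u ∈ U.subgroupOf M, u ≠ 1 → ∀ x : V, u • x = x → x = 0 := fun u hu hu1 x hx =>
    hfpf u (Subgroup.mem_subgroupOf.1 hu) (fun h => hu1 (Subtype.ext h)) x hx
  by_cases hbig : s = 1 ∧ 2 ≤ e
  · obtain ⟨rfl, he2⟩ := hbig
    have hQp : Q.Prime := by rw [hQ, pow_one]; exact hq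
    refine (fb_of_layer M (fun Y hY => htransfer M le_rfl Y hY fun Y' _ => ?_) hsym).mono ?_
    · have hnd' : ∀ m ∈ (⊤ : Subgroup M), m ∉ U.subgroupOf M →
          ∃ f ∈ (⊤ : Subgroup M), ⁅m, f⁆ ≠ 1 := by
        intro m _ hm
        obtain ⟨f, hf, hne⟩ := hnd m m.2 fun h => hm (Subgroup.mem_subgroupOf.2 h)
        exact ⟨⟨f, hf⟩, trivial, fun h => hne (congrArg Subtype.val h)⟩
      have hcomm' : ∀ a ∈ (⊤ : Subgroup M), ∀ b ∈ (⊤ : Subgroup M), ⁅a, b⁆ ∈ U.subgroupOf M :=
        fun a _ b _ => Subgroup.mem_subgroupOf.2 (hcomm a a.2 b b.2)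
      have L : Layers (U.subgroupOf M) (⊤ : Subgroup M) V e :=
        { le := le_top
          fpf := hfpfM
          comm := hcomm'
          half := half_of_nondeg hfpfM hcomm' hnd'
          iso := fun S _ hS => by
            rw [← Subgroup.card_map_of_injective (K := S) M.subtype_injective]
            refine hiso _ (Subgroup.map_subtype_le S) ?_
            refine (Subgroup.eq_bot_iff_forall _).2 fun x hx => ?_
            obtain ⟨⟨y, hy, rfl⟩, hxU⟩ := hx
            have : y ∈ S ⊓ U.subgroupOf M := ⟨hy, Subgroup.mem_subgroupOf.2 hxU⟩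
            rw [hS, Subgroup.mem_bot] at this
            rw [this]; rfl }
      refine classes_layer (d := d) hcop L hQ5 hQp he2 hed hVQ hdvd ?_ ?_ hnd' Y' le_top
      · rw [Nat.card_congr (Subgroup.subgroupOfEquivOfLe hUM).toEquiv]; exact hU
      · rw [Subgroup.card_top, Nat.card_congr (Subgroup.subgroupOfEquivOfLe hUM).toEquiv, hM]
    · rw [hV, one_mul, one_mul, mul_comm]
      refine Nat.mul_le_mul_right _ ((gb_le e he).trans (Nat.pow_le_pow_right (by norm_num) ?_))
      omega
  · have hMU : FB (G ⧸ U) (e * e * (s * gb e)) := by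
      let π : G ⧸ U →* G ⧸ M := QuotientGroup.map U M (MonoidHom.id G) hUM
      haveI : Finite (G ⧸ U) := Quotient.finite _
      refine FB.ext π (FB.of_card ?_) hsym
      have hsurj : Function.Surjective π := fun x => by
        obtain ⟨g, rfl⟩ := QuotientGroup.mk_surjective x
        exact ⟨g, rfl⟩
      have h1 := π.ker.card_mul_index
      rw [Subgroup.index_ker, MonoidHom.range_eq_top.2 hsurj, Subgroup.card_top,
        ← Subgroup.index_eq_card, ← Subgroup.index_eq_card] at h1
      have h2 := Subgroup.relIndex_mul_index hUM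
      have h3 := (U.subgroupOf M).card_mul_index
      rw [Nat.card_congr (Subgroup.subgroupOfEquivOfLe hUM).toEquiv, hM] at h3
      have h4 : U.relIndex M = e * e := Nat.eq_of_mul_eq_mul_left Nat.card_pos h3
      rw [h4, ← h1] at h2
      exact (Nat.eq_of_mul_eq_mul_right
        (Nat.pos_of_ne_zero Subgroup.index_ne_zero_of_finite) h2).ge
    refine (fb_of_layer U (fun Y hY => htransfer U hUM Y hY fun Y' hY' =>
      classes_scalar hcop hfpfM (fun a ha b hb => Subtype.ext (hUab a ha b hb)) ?_ Y' hY') hMU).mono ?_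
    · rw [Nat.card_congr (Subgroup.subgroupOfEquivOfLe hUM).toEquiv]; exact hUle
    · rw [hV, mul_comm]
      refine Nat.mul_le_mul_right _ ?_
      rcases Nat.lt_or_ge s 2 with h | h
      · obtain rfl : s = 1 := by omega
        obtain rfl : e = 1 := by omega
        calc 1 * 1 * (1 * gb 1) = 1 := by norm_num [gb]
          _ ≤ _ := Nat.one_le_pow _ _ (by norm_num)
      · exact arith_large h he hed

end Step

/-- Kernel of a pair of projections. -/
theorem fb_of_reducible' {G V : Type} [Group G] [Finite G] [AddCommGroup V] [Finite V]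
    [DistribMulAction G V] [FaithfulSMul G V] (U Z : AddSubgroup V) (hU : Invariant G V U)
    (hZ : Invariant G V Z) (hbot : U ⊓ Z = ⊥) (htop : U ⊔ Z = ⊤) {a b : ℕ}
    (ha : @FB (@Aff (@toUnits G U _ _ (subAction U hU)).range U _ _ _) _ a)
    (hb : @FB (@Aff (@toUnits G Z _ _ (subAction Z hZ)).range Z _ _ _) _ b) :
    FB (Aff G V) (a * b) := by
  classical
  letI := subAction U hU
  letI := subAction Z hZ
  haveI := finite_range (G := G) (W := U)
  haveI := finite_range (G := G) (W := Z)
  haveI := finite_aff (G := (toUnits G U).range) (V := U)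
  haveI := finite_aff (G := (toUnits G Z).range) (V := Z)
  haveI := finite_aff (G := G) (V := V)
  let e : (U × Z) ≃+ V := AddEquiv.ofBijective
    (AddMonoidHom.coprod U.subtype Z.subtype) ⟨fun a b h =>
      AddSubgroup.add_injective_of_disjoint (disjoint_iff.2 hbot) h, fun x => by
      obtain ⟨u, hu, z, hz, rfl⟩ := AddSubgroup.mem_sup.1 (show x ∈ U ⊔ Z by rw [htop]; trivial)
      exact ⟨(⟨u, hu⟩, ⟨z, hz⟩), rfl⟩⟩
  have he : ∀ (g : G) (x : V), e.symm (g • x) = (g • (e.symm x).1, g • (e.symm x).2) := fun g x => by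
    refine e.symm_apply_eq.2 ?_
    show g • x = (g • ((e.symm x).1 : V)) + g • ((e.symm x).2 : V)
    rw [← smul_add]
    exact congrArg _ (e.apply_symm_apply x).symm
  let f1 : Aff G V →* Aff (toUnits G U).range U :=
    affMap (toUnits G U).rangeRestrict ((AddMonoidHom.fst U Z).comp e.symm.toAddMonoidHom)
      fun g x => congrArg Prod.fst (he g x)
  let f2 : Aff G V →* Aff (toUnits G Z).range Z :=
    affMap (toUnits G Z).rangeRestrict ((AddMonoidHom.snd U Z).comp e.symm.toAddMonoidHom)
      fun g x => congrArg Prod.snd (he g x)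
  refine FB.of_injective (f1.prod f2) ((injective_iff_map_eq_one _).2 fun z hz => ?_) (FB.prod ha hb)
  obtain ⟨h1, h1'⟩ := affMap_eq_one (show f1 z = 1 from congrArg Prod.fst hz)
  obtain ⟨h2, h2'⟩ := affMap_eq_one (show f2 z = 1 from congrArg Prod.snd hz)
  refine ext_iff'.2 ⟨?_, FaithfulSMul.eq_of_smul_eq_smul (α := V) fun x => ?_⟩
  · show tr z = 0
    rw [← e.apply_symm_apply (tr z), show e.symm (tr z) = 0 from Prod.ext h1 h2, map_zero]
  · show z.right • x = (1 : G) • x
    rw [one_smul, ← e.apply_symm_apply x]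
    show z.right • (((e.symm x).1 : V) + ((e.symm x).2 : V)) = _
    rw [smul_add]
    congr 1
    · have := congrArg Subtype.val
        (show z.right • (e.symm x).1 = (e.symm x).1 by rw [← rangeRestrict_smul, h1', one_smul])
      exact this
    · have := congrArg Subtype.val
        (show z.right • (e.symm x).2 = (e.symm x).2 by rw [← rangeRestrict_smul, h2', one_smul])
      exact this

/-- The statement of the induction. -/
def AffBelow (p n : ℕ) : Prop :=
  ∀ (G V : Type) [Group G] [Finite G] [AddCommGroup V] [Finite V] [DistribMulAction G V]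
    [FaithfulSMul G V], Group.IsSolvable G → IsCR G V → ∀ m, 1 ≤ m → m < n →
      Nat.card V = p ^ m → FB (Aff G V) (3 ^ (m - 1) * p ^ m)

section Blocks

variable {G V : Type} [Group G] [Finite G] [AddCommGroup V] [Finite V] [DistribMulAction G V]
  [FaithfulSMul G V]

theorem fb_blocks {p n : ℕ} (hp : p.Prime) (hV : Nat.card V = p ^ n) (IH : AffBelow p n)
    (hs : Group.IsSolvable G) (hirr : IsIrred G V) {ι : Type} [Fintype ι]
    [MulAction G ι] (π : ι → AddMonoid.End V)
    (hπ : ∀ (g : G) (i : ι) (x : V), π (g • i) (g • x) = g • π i x)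
    (hidem : ∀ i x, π i (π i x) = π i x)
    (horth : ∀ i j, i ≠ j → ∀ x, π i (π j x) = 0)
    (hsum : ∀ x, ∑ i, π i x = x)
    (hne : ∀ i, ∃ x, π i x ≠ 0)
    (htwo : ∃ i j : ι, i ≠ j) : FB (Aff G V) (3 ^ (n - 1) * p ^ n) := by
  classical
  haveI := finite_aff (G := G) (V := V)
  obtain ⟨i0, j0, hij⟩ := htwo
  let S : ι → AddSubgroup V := fun i =>
    { carrier := {x | π i x = x}
      zero_mem' := map_zero _
      add_mem' := fun {a b} ha hb => by
        simp only [Set.mem_setOf_eq] at ha hb ⊢
        rw [map_add, ha, hb]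
      neg_mem' := fun {a} ha => by
        simp only [Set.mem_setOf_eq] at ha ⊢
        rw [map_neg, ha] }
  have hS : ∀ i x, x ∈ S i ↔ π i x = x := fun i x => Iff.rfl
  -- the product decomposition
  let e : V ≃ (∀ i, S i) :=
    { toFun := fun x i => ⟨π i x, hidem i x⟩
      invFun := fun f => ∑ i, (f i : V)
      left_inv := hsum
      right_inv := fun f => by
        funext i
        refine Subtype.ext ?_
        show π i (∑ j, (f j : V)) = f i
        rw [map_sum, Finset.sum_eq_single i]
        · exact (f i).2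
        · intro j _ hji
          rw [← (hS _ _).1 (f j).2]
          exact horth i j (Ne.symm hji) _
        · simp }
  have hcardV : p ^ n = ∏ i, Nat.card (S i) := by
    rw [← hV, Nat.card_congr e, Nat.card_pi]
  have hm : ∀ i, ∃ m, 1 ≤ m ∧ Nat.card (S i) = p ^ m := fun i => by
    obtain ⟨m, -, hm⟩ := (Nat.dvd_prime_pow hp).1 (hV ▸ (S i).card_addSubgroup_dvd_card)
    refine ⟨m, Nat.pos_of_ne_zero fun h => ?_, hm⟩
    obtain ⟨x, hx⟩ := hne i
    rw [h, pow_zero, AddSubgroup.card_eq_one] at hm
    exact hx (AddSubgroup.mem_bot.1 (hm ▸ (hS i _).2 (hidem i x)))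
  choose m hm1 hm using hm
  have hnsum : n = ∑ i, m i := by
    refine Nat.pow_right_injective hp.two_le ?_
    show p ^ n = p ^ ∑ i, m i
    rw [hcardV, ← Finset.prod_pow_eq_pow_sum]
    exact Finset.prod_congr rfl fun i _ => hm i
  have hmlt : ∀ i, m i < n := fun i => by
    obtain ⟨j, hj⟩ : ∃ j, j ≠ i := by
      by_cases h : i0 = i
      · exact ⟨j0, fun e => hij (h.trans e.symm)⟩
      · exact ⟨i0, h⟩
    have := Finset.single_lt_sum (f := m) hj (Finset.mem_univ i) (Finset.mem_univ j)
      (Nat.lt_of_lt_of_le Nat.zero_lt_one (hm1 j)) fun k _ _ => Nat.zero_le _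
    omega
  let ψ : Aff G V →* (MulAction.toPermHom G ι).range :=
    (MulAction.toPermHom G ι).rangeRestrict.comp SemidirectProduct.rightHom
  haveI : Finite (MulAction.toPermHom G ι).range := Finite.of_surjective _
    (MulAction.toPermHom G ι).rangeRestrict_surjective
  haveI := hs
  haveI : Group.IsSolvable (MulAction.toPermHom G ι).range :=
    Group.isSolvable_of_surjective (MulAction.toPermHom G ι).rangeRestrict_surjective
  have hperm : FB (MulAction.toPermHom G ι).range (3 ^ (Nat.card ι - 1)) :=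
    (lin_perm_bounds (Nat.card ι + 1)).2 _ ι inferInstance (Nat.lt_succ_self _)
  set B := (MulAction.toPermHom G ι).ker with hBdef
  have hBfix : ∀ b : B, ∀ i : ι, (b : G) • i = i := fun b i =>
    congrArg (fun e : Equiv.Perm ι => e i) (b.2 : MulAction.toPermHom G ι b.1 = 1)
  have hπB : ∀ (b : B) (i : ι) (x : V), π i ((b : G) • x) = (b : G) • π i x := fun b i x => by
    conv_lhs => rw [← hBfix b i]
    exact hπ _ _ _
  have hinv : ∀ i, Invariant B V (S i) := fun i b x hx => by
    refine (hS _ _).2 ?_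
    show π i ((b : G) • x) = (b : G) • x
    rw [hπB, (hS _ _).1 hx]
  letI act : ∀ i, DistribMulAction B (S i) := fun i => subAction (S i) (hinv i)
  haveI hfin : ∀ i, Finite (toUnits B (S i)).range := fun i => finite_range
  have hcrB : IsCR B V := isCR_normal (isCR_of_irred hirr) B
  have hker : FB ψ.ker (∏ i, 3 ^ (m i - 1) * p ^ m i) := by
    have hmem : ∀ z : ψ.ker, (z : Aff G V).right ∈ B := fun z =>
      congrArg Subtype.val (show ψ z = 1 from z.2)
    let f : ∀ i, ψ.ker →* Aff (toUnits B (S i)).range (S i) := fun i =>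
      MonoidHom.mk' (fun z => ⟨Multiplicative.ofAdd ⟨π i (tr (z : Aff G V)), hidem i _⟩,
        (toUnits B (S i)).rangeRestrict ⟨_, hmem z⟩⟩) fun x y => ext_iff'.2 ⟨Subtype.ext (by
          show π i (tr ((x : Aff G V) * (y : Aff G V))) = π i (tr (x : Aff G V)) +
            (x : Aff G V).right • π i (tr (y : Aff G V))
          rw [tr_mul, map_add]
          congr 1
          exact hπB ⟨_, hmem x⟩ i _), map_mul (toUnits B (S i)).rangeRestrict ⟨_, hmem x⟩ ⟨_, hmem y⟩⟩
    haveI : ∀ i, Finite (Aff (toUnits B (S i)).range (S i)) := fun i => finite_aff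
    refine FB.of_family f ?_ fun i => ?_
    · intro z hz
      refine Subtype.ext (ext_iff'.2 ⟨?_, FaithfulSMul.eq_of_smul_eq_smul (α := V) fun x => ?_⟩)
      · show tr (z : Aff G V) = 0
        rw [← hsum (tr (z : Aff G V))]
        exact Finset.sum_eq_zero fun i _ => congrArg Subtype.val (congrArg tr (hz i))
      · show (z : Aff G V).right • x = (1 : G) • x
        rw [one_smul, ← hsum x, Finset.smul_sum]
        refine Finset.sum_congr rfl fun i _ => ?_
        have h1 : (toUnits B (S i)).rangeRestrict ⟨_, hmem z⟩ = 1 :=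
          congrArg (fun w : Aff (toUnits B (S i)).range (S i) => w.right) (hz i)
        have e : (⟨_, hmem z⟩ : B) • (⟨π i x, hidem i x⟩ : S i) = ⟨π i x, hidem i x⟩ := by
          rw [← rangeRestrict_smul, h1, one_smul]
        exact congrArg Subtype.val e
    · haveI : FaithfulSMul (toUnits B (S i)).range (S i) := inferInstance
      exact IH _ _ (Group.isSolvable_of_surjective (toUnits B (S i)).rangeRestrict_surjective)
        (isCR_range (isCR_sub hcrB (S i) (hinv i))) (m i) (hm1 i) (hmlt i) (hm i)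
  refine (FB.ext ψ hker hperm).mono (le_of_eq ?_)
  rw [Finset.prod_mul_distrib, Finset.prod_pow_eq_pow_sum, Finset.prod_pow_eq_pow_sum, ← hnsum,
    mul_right_comm, ← pow_add]
  congr 2
  have h1 : ∑ i, (m i - 1) + Fintype.card ι = ∑ i, m i := by
    have h2 : Fintype.card ι = ∑ _i : ι, 1 := by simp
    rw [h2, ← Finset.sum_add_distrib]
    exact Finset.sum_congr rfl fun i _ => by have := hm1 i; omega
  have h2 : 1 ≤ Fintype.card ι := Fintype.card_pos_iff.2 ⟨i0⟩
  rw [Nat.card_eq_fintype_card]
  omega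

end Blocks

/-- The bound for all solvable completely reducible groups. -/
theorem aff_below {p : ℕ} (hp : p.Prime) (hp5 : 5 ≤ p) : ∀ n, AffBelow p n := by
  intro n
  induction n with
  | zero => intro G V _ _ _ _ _ _ _ _ m _ hm; omega
  | succ n ih =>
    intro G V _ _ _ _ _ _ hs hcr m hm1 hm hV
    rcases Nat.lt_or_ge m n with h | h
    · exact ih G V hs hcr m hm1 h hV
    obtain rfl : m = n := by omega
    haveI := hs
    haveI : Nontrivial V := Finite.one_lt_card_iff_nontrivial.1 (by
      rw [hV]; exact Nat.one_lt_pow (by omega) hp.one_lt)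
    by_cases hirr : IsIrred G V
    swap
    · simp only [IsIrred, not_forall, not_or] at hirr
      obtain ⟨U, hU, hbot, htop⟩ := hirr
      obtain ⟨Z, hZ, h1, h2⟩ := hcr U hU
      have hZbot : Z ≠ ⊥ := by
        rintro rfl
        exact htop (by simpa using h2)
      have hmul := card_mul_of_compl h1 h2
      rw [hV] at hmul
      obtain ⟨a, -, ha⟩ := (Nat.dvd_prime_pow hp).1 (Dvd.intro _ hmul)
      obtain ⟨b, -, hb⟩ := (Nat.dvd_prime_pow hp).1 (Dvd.intro_left _ hmul)
      have ha1 : 1 ≤ a := Nat.pos_of_ne_zero fun h => hbot (by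
        rw [h, pow_zero, AddSubgroup.card_eq_one] at ha; exact ha)
      have hb1 : 1 ≤ b := Nat.pos_of_ne_zero fun h => hZbot (by
        rw [h, pow_zero, AddSubgroup.card_eq_one] at hb; exact hb)
      have hab : a + b = m := Nat.pow_right_injective hp.two_le (by
        show p ^ (a + b) = p ^ m
        rw [pow_add, ← ha, ← hb, hmul])
      letI := subAction U hU
      letI := subAction Z hZ
      haveI := finite_range (G := G) (W := U)
      haveI := finite_range (G := G) (W := Z)
      have hUb := ih (toUnits G U).range U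
        (Group.isSolvable_of_surjective (toUnits G U).rangeRestrict_surjective)
        (isCR_range (isCR_sub hcr U hU)) a ha1 (by omega) ha
      have hZb := ih (toUnits G Z).range Z
        (Group.isSolvable_of_surjective (toUnits G Z).rangeRestrict_surjective)
        (isCR_range (isCR_sub hcr Z hZ)) b hb1 (by omega) hb
      refine (fb_of_reducible' U Z hU hZ h1 h2 hUb hZb).mono ?_
      rw [← hab, pow_add, mul_mul_mul_comm, ← pow_add]
      exact Nat.mul_le_mul_right _ (Nat.pow_le_pow_right (by norm_num) (by omega))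
    by_cases hfield : ∀ N : Subgroup G, N.Normal → (∀ a ∈ N, ∀ b ∈ N, a * b = b * a) →
        ∀ r : AddMonoid.End V, r ∈ spanRing N → r ≠ 0 → Function.Injective r
    · exact fb_field hp hp5 hV hfield
    simp only [not_forall] at hfield
    obtain ⟨N, hN, hab, r, hr, hr0, hri⟩ := hfield
    haveI := hN
    obtain ⟨ι, hι, hact, π, h1, h2, h3, h4, h5, h6⟩ :=
      exists_blocks_of_not_field hirr N hab fun hall => hri (hall r hr hr0)
    exact fb_blocks hp hV ih hs hirr π h1 h2 h3 h4 h5 h6

end CfsgLib.Solvable.BlockSize
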