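import Cfsg.Agent.Lib.Solvable.BlockSize.GroupBound
import Cfsg.Agent.Lib.Solvable.BlockSize.CountOver
import Cfsg.Agent.Lib.Blocks.FongReynolds
import Cfsg.Agent.Lib.Blocks.StableOver
import Cfsg.Agent.S4492

/-!
# The size of a block of a solvable group
-/

set_option autoImplicit false
set_option linter.style.haveILetI false

universe u

namespace CfsgLib.Solvable.BlockSize

open Cfsg CfsgLib CfsgLib.Blocks CfsgLib.Blocks.FongReynolds

theorem ncard_block_le {p : ℕ} [Fact p.Prime] (hp5 : 5 ≤ p) {M : Ideal AlgInt}
    (hM : IsPModular p M) (n : ℕ) :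
    ∀ (G : Type u) [Group G] [Fintype G], Nat.card G ≤ n → Group.IsSolvable G →
      ∀ B : Set (IrrCharacter G), IsPBlock M B → 0 < blockDefect p B →
        Nat.card B ≤ 3 ^ (blockDefect p B - 1) * p ^ blockDefect p B := by
  classical
  induction n with
  | zero =>
    intro G _ _ hG
    have := Nat.card_pos (α := G)
    omega
  | succ n ih =>
    intro G _ _ hG hsolv B hB hd
    haveI := hsolv
    set N := Cfsg.pPrimeCore p G with hN
    have hNp : ¬ p ∣ Nat.card N :=
      hM.1.coprime_iff_not_dvd.1 (CfsgLib.Solvable.Cores.coprime_card_pPrimeCore p).symm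
    haveI : Fintype N := Fintype.ofFinite N
    obtain ⟨χ, hχ⟩ := IsPBlock.nonempty hM hB
    obtain ⟨θ, hθ⟩ := CfsgLib.Blocks.exists_over (N := N) χ
    have hb := (StableOver.isPBlock_singleton hM hNp θ).1
    let T : Subgroup G :=
      { carrier := {g | conjIrr g θ = θ}
        one_mem' := FongReynolds.conjIrr_one θ
        mul_mem' := fun {a b} ha hb' => by
          show conjIrr (a * b) θ = θ
          rw [← FongReynolds.conjIrr_mul]
          simp only [Set.mem_setOf_eq] at ha hb'
          rw [ha, hb']
        inv_mem' := fun {a} ha => by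
          show conjIrr a⁻¹ θ = θ
          simp only [Set.mem_setOf_eq] at ha
          conv_lhs => rw [← ha]
          rw [FongReynolds.conjIrr_mul, mul_inv_cancel, FongReynolds.conjIrr_one] }
    have hT : ∀ g : G, g ∈ T ↔ ∀ φ ∈ ({θ} : Set (IrrCharacter N)), conjIrr g φ ∈ ({θ} : Set (IrrCharacter N)) :=
      fun g => by simp [T, Set.mem_singleton_iff]
    have hNT : N ≤ T := fun x hx => by
      show conjIrr x θ = θ
      refine Subtype.ext (funext fun k => ?_)
      show (θ : N → ℂ) (MulAut.conjNormal x k) = (θ : N → ℂ) k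
      have : MulAut.conjNormal x k = (⟨x, hx⟩ : N) * k * (⟨x, hx⟩ : N)⁻¹ :=
        Subtype.ext (by simp [MulAut.conjNormal_apply])
      rw [this]
      exact CfsgLib.Char.IsIrrCharacter.isClassFunction θ.2 k ⟨x, hx⟩
    by_cases hTtop : T = ⊤
    · have hinv : ∀ (g : G) (k : N),
          (θ : N → ℂ) ⟨g * k * g⁻¹, (inferInstance : N.Normal).conj_mem k k.2 g⟩ =
            (θ : N → ℂ) k := by
        intro g k
        have hg : conjIrr g θ = θ := (show g ∈ T by rw [hTtop]; trivial)
        have h1 := congrFun (congrArg Subtype.val hg) k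
        exact Eq.trans (congrArg (θ : N → ℂ) (Subtype.ext (MulAut.conjNormal_apply g k).symm)) h1
      obtain ⟨B', hB', hmem, hsyl, -⟩ := Cfsg.Agent.S4492.result p M hM
        CfsgLib.Fusion.PSolvable.psolvable_of_solvable N hN θ hinv
      obtain rfl : B = B' := IsPBlock.eq_of_mem hM hB hB' hχ ((hmem χ).2 hθ)
      obtain ⟨S⟩ : Nonempty (Sylow p G) := inferInstance
      have hdef : blockDefect p B = (Nat.card G).factorization p := by
        have h1 := card_defectGroup hM hB (hsyl S)
        rw [S.card_eq_multiplicity] at h1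
        exact (Nat.pow_right_injective hM.1.two_le h1).symm
      have hcount : Nat.card B ≤ Nat.card (ConjClasses (G ⧸ N)) := by
        refine le_trans (le_of_eq (Nat.card_congr ?_)) (card_over_le θ hinv)
        exact Equiv.subtypeEquivRight fun χ' => hmem χ'
      haveI : Finite (G ⧸ N) := Quotient.finite _
      obtain ⟨X, iX, iXf, ⟨e⟩⟩ := Finite.exists_type_univ_nonempty_mulEquiv.{u, 0} (G ⧸ N)
      have hfac : (Nat.card (G ⧸ N)).factorization p = blockDefect p B := by
        rw [hdef, ← N.index_mul_card, Nat.factorization_mul Subgroup.index_ne_zero_of_finite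
          Nat.card_pos.ne', Finsupp.add_apply, Nat.factorization_eq_zero_of_not_dvd hNp, add_zero,
          Subgroup.index_eq_card]
      haveI : Group.IsSolvable X := Group.isSolvable_of_surjective
        (f := e.toMonoidHom.comp (QuotientGroup.mk' N))
        (e.surjective.comp (QuotientGroup.mk'_surjective N))
      have hcore : Cfsg.pPrimeCore p X = ⊥ := by
        have h0 : Cfsg.pPrimeCore p (G ⧸ N) = ⊥ := CfsgLib.Components.pPrimeCore_quotient_eq_bot
        haveI : ((Cfsg.pPrimeCore p X).map e.symm.toMonoidHom).Normal :=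
          Subgroup.Normal.map inferInstance _ e.symm.surjective
        have h1 : (Cfsg.pPrimeCore p X).map e.symm.toMonoidHom ≤ Cfsg.pPrimeCore p (G ⧸ N) :=
          CfsgLib.Solvable.Cores.le_pPrimeCore (by
            rw [Subgroup.card_map_of_injective e.symm.injective]
            exact CfsgLib.Solvable.Cores.coprime_card_pPrimeCore p)
        rw [h0, le_bot_iff, Subgroup.map_eq_bot_iff_of_injective _ e.symm.injective] at h1
        exact h1
      have hXcard : Nat.card X = Nat.card (G ⧸ N) := Nat.card_congr e.symm.toEquiv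
      have := classes_le (X := X) hp5 hcore (by rw [hXcard, hfac]; exact hd)
      rw [hXcard, hfac] at this
      refine hcount.trans (le_trans ?_ this)
      exact Nat.card_le_card_of_surjective _
        (ConjClasses.map_surjective (f := e.symm.toMonoidHom) e.symm.surjective)
    · haveI : Fintype T := Fintype.ofFinite T
      have hcov : ∃ χ' ∈ B, ∃ φ ∈ ({θ} : Set (IrrCharacter N)),
          classInner (fun k : N => (χ' : G → ℂ) k) (φ : N → ℂ) ≠ 0 := ⟨χ, hχ, θ, rfl, hθ⟩
      obtain ⟨B₁, hB₁, hcov₁, hind⟩ := FongReynolds.exists_inducing hNT hM hb hT hB hcov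
      obtain ⟨B₂, hi₂, -, hall, hiff⟩ := FongReynolds.exists_induced hNT hM hb hT hB₁ hcov₁
      obtain rfl : B = B₂ := IsInducedBlock.unique hM hind hi₂
      have hdef : blockDefect p B = blockDefect p B₁ := by
        have h1 := blockDefect_add_min (p := p) (IsPBlock.nonempty hM hB₁)
        have h2 := blockDefect_add_min (p := p) (IsPBlock.nonempty hM hB)
        have h3 := (FongReynolds.minDegVal_eq hNT hM hb hT hB₁ hcov₁ hind).2
        have h4 : (Nat.card G).factorization p =
            T.index.factorization p + (Nat.card T).factorization p := by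
          rw [← Subgroup.index_mul_card T, Nat.factorization_mul Subgroup.index_ne_zero_of_finite
            Nat.card_pos.ne', Finsupp.add_apply]
        omega
      have hlt : Nat.card T ≤ n := by
        have h1 : Nat.card T ≠ Nat.card G := fun h => hTtop (Subgroup.eq_top_of_card_eq _ h)
        have h2 := T.card_le_card_group
        omega
      refine le_trans (Nat.card_le_card_of_surjective
        (fun ψ : B₁ => (⟨FongReynolds.ind hNT hM hb hT (hall ψ.1 ψ.2),
          (hiff _).2 ⟨ψ.1, ψ.2, rfl⟩⟩ : B)) ?_) ?_
      · rintro ⟨χ', hχ'⟩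
        obtain ⟨ψ, hψ, he⟩ := (hiff χ').1 hχ'
        exact ⟨⟨ψ, hψ⟩, Subtype.ext (Subtype.ext he.symm)⟩
      · rw [hdef]
        exact ih T hlt inferInstance B₁ hB₁ (hdef ▸ hd)

end CfsgLib.Solvable.BlockSize
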